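/-
Self-adjoint maps of `E/F` for the trace form, and the groups of them stable under congruence by `E`.
-/
import Cfsg.Agent.Lib.Classical.FieldExt.Gal

set_option autoImplicit false
set_option linter.style.haveILetI false
set_option linter.unusedSectionVars false

namespace Cfsg.Agent.Classical.FieldExt.Symp

open Cfsg.Agent.Classical.FieldExt

variable {F E : Type*} [Field F] [Field E] [Algebra F E]

/-- The trace. -/
local notation "tr" => Algebra.trace F E

/-- Adjointness for the trace form. -/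
def IsAdj (A B : E →ₗ[F] E) : Prop := ∀ a b, tr (A a * b) = tr (a * B b)

/-- A coefficient vector of a map. -/
def IsCoef [Fintype (E ≃ₐ[F] E)] (A : E →ₗ[F] E) (c : (E ≃ₐ[F] E) → E) : Prop := ∀ x, A x = ∑ σ, c σ * σ x

/-- The symmetrised homogeneous map. -/
def pairMap (σ : E ≃ₐ[F] E) (t : E) : E →ₗ[F] E :=
  (mulE t).comp (galMap σ) + (galMap σ⁻¹).comp (mulE t)

theorem pairMap_apply (σ : E ≃ₐ[F] E) (t x : E) : pairMap σ t x = t * σ x + σ⁻¹ (t * x) := rfl

theorem tr_gal (σ : E ≃ₐ[F] E) (x : E) : tr (σ x) = tr x := Algebra.trace_eq_of_algEquiv σ x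

theorem isAdj_pairMap (σ : E ≃ₐ[F] E) (t : E) : IsAdj (pairMap σ t) (pairMap σ t) := by
  intro a b
  have h1 : tr (t * σ a * b) = tr (a * σ⁻¹ (t * b)) := by
    rw [← tr_gal σ (a * σ⁻¹ (t * b)), map_mul σ, show σ (σ⁻¹ (t * b)) = t * b from σ.apply_symm_apply _]
    congr 1; ring
  have h2 : tr (σ⁻¹ (t * a) * b) = tr (a * (t * σ b)) := by
    rw [← tr_gal σ (σ⁻¹ (t * a) * b), map_mul σ, show σ (σ⁻¹ (t * a)) = t * a from σ.apply_symm_apply _]
    congr 1; ring
  rw [pairMap_apply, pairMap_apply, add_mul, mul_add, map_add, map_add, h1, h2, add_comm]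

theorem pairMap_inv (σ : E ≃ₐ[F] E) (t : E) : pairMap σ⁻¹ t = pairMap σ (σ t) := LinearMap.ext fun x => by
  rw [pairMap_apply, pairMap_apply, inv_inv, map_mul, map_mul, show σ⁻¹ (σ t) = t from σ.symm_apply_apply _]
  ring

variable [Finite E] {r : ℕ}

section

variable [Fintype (E ≃ₐ[F] E)] [DecidableEq (E ≃ₐ[F] E)]

theorem tr_sum (x : E) : algebraMap F E (tr x) = ∑ σ : E ≃ₐ[F] E, σ x := by
  haveI := finiteDimensional (F := F) (E := E)
  haveI : Finite F := Finite.of_injective _ (algebraMap F E).injective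
  rw [trace_eq_sum_automorphisms]
  exact Finset.sum_congr (Finset.ext fun _ => by simp) fun _ _ => rfl

theorem coef_unique {A : E →ₗ[F] E} {a b : (E ≃ₐ[F] E) → E} (ha : IsCoef A a) (hb : IsCoef A b) : a = b := by
  have hli : LinearIndependent E (fun σ : E ≃ₐ[F] E => galMap σ) :=
    (linearIndependent_algHom_toLinearMap F E E).comp (fun σ : E ≃ₐ[F] E => σ.toAlgHom)
      AlgEquiv.coe_toAlgHom_injective
  have h0 : ∑ σ, (a σ - b σ) • galMap σ = 0 := LinearMap.ext fun x => by
    rw [LinearMap.sum_apply, LinearMap.zero_apply]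
    simp only [LinearMap.smul_apply, smul_eq_mul, galMap_apply, sub_mul, Finset.sum_sub_distrib]
    rw [← ha x, ← hb x, sub_self]
  exact funext fun σ => sub_eq_zero.mp (Fintype.linearIndependent_iff.mp hli _ h0 σ)

theorem gal_sum_eq_zero {w : (E ≃ₐ[F] E) → E} (h : ∀ x, ∑ σ, w σ * σ x = 0) (σ : E ≃ₐ[F] E) : w σ = 0 :=
  congrFun (coef_unique (A := 0) (a := w) (b := 0) (fun x => (h x).symm) (fun x => by simp)) σ

theorem coef_adj {A B : E →ₗ[F] E} (hAB : IsAdj A B) {a b : (E ≃ₐ[F] E) → E} (ha : IsCoef A a) (hb : IsCoef B b)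
    (σ : E ≃ₐ[F] E) : b σ = σ (a σ⁻¹) := by
  haveI := finiteDimensional (F := F) (E := E)
  haveI : Finite F := Finite.of_injective _ (algebraMap F E).injective
  refine congrFun (coef_unique hb (b := fun σ => σ (a σ⁻¹)) fun y => ?_) σ
  have key : ∀ x, tr (x * B y) = tr (x * ∑ σ : E ≃ₐ[F] E, σ (a σ⁻¹) * σ y) := fun x => by
    rw [← hAB x y, ha x, Finset.sum_mul, Finset.mul_sum, map_sum, map_sum, ← Equiv.sum_comp (Equiv.inv (E ≃ₐ[F] E))]
    refine Finset.sum_congr rfl fun τ _ => ?_
    rw [Equiv.inv_apply, ← tr_gal τ, map_mul τ, map_mul τ, show τ (τ⁻¹ x) = x from τ.apply_symm_apply x]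
    congr 1; ring
  by_contra hne
  have hnd := traceForm_nondegenerate F E
  refine hne (sub_eq_zero.mp (hnd.2 _ fun x => ?_))
  rw [Algebra.traceForm_apply, mul_sub, map_sub, key, sub_self]

theorem coef_pairMap (σ : E ≃ₐ[F] E) (t : E) :
    IsCoef (pairMap σ t) (Pi.single σ t + Pi.single σ⁻¹ (σ⁻¹ t)) := fun x => by
  simp only [pairMap_apply, Pi.add_apply, add_mul, Finset.sum_add_distrib]
  rw [Finset.sum_eq_single σ (fun τ _ h => by rw [Pi.single_eq_of_ne h, zero_mul]) (by simp),
    Finset.sum_eq_single σ⁻¹ (fun τ _ h => by rw [Pi.single_eq_of_ne h, zero_mul]) (by simp), Pi.single_eq_same,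
    Pi.single_eq_same, map_mul]

theorem coef_mulE (c : E) : IsCoef (mulE (F := F) c) (Pi.single 1 c) := fun x => by
  rw [Finset.sum_eq_single 1 (fun τ _ h => by rw [Pi.single_eq_of_ne h, zero_mul]) (by simp), Pi.single_eq_same,
    mulE_apply, AlgEquiv.one_apply]

theorem coef_comp {A B : E →ₗ[F] E} {a b : (E ≃ₐ[F] E) → E} (ha : IsCoef A a) (hb : IsCoef B b) :
    IsCoef (A.comp B) (fun ρ => ∑ σ, a σ * σ (b (σ⁻¹ * ρ))) := fun x => by
  rw [LinearMap.comp_apply, ha, Finset.sum_congr rfl fun σ _ => by rw [hb, map_sum, Finset.mul_sum]]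
  conv_rhs => simp only [Finset.sum_mul]; rw [Finset.sum_comm]
  refine Finset.sum_congr rfl fun σ _ => ?_
  rw [← Equiv.sum_comp (Equiv.mulLeft σ) (fun ρ => a σ * σ (b (σ⁻¹ * ρ)) * ρ x)]
  refine Finset.sum_congr rfl fun τ _ => ?_
  rw [Equiv.coe_mulLeft, inv_mul_cancel_left, map_mul, AlgEquiv.mul_apply]
  ring

end

/-- An additive group of self-adjoint maps containing the multiplications and stable under congruence. -/
structure IsCongr (M : AddSubgroup (E →ₗ[F] E)) : Prop where
  adj : ∀ A ∈ M, IsAdj A A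
  scalar : ∀ c, mulE c ∈ M
  congr : ∀ c, ∀ A ∈ M, (mulE c).comp (A.comp (mulE c)) ∈ M

theorem IsCongr.smul_mem {M : AddSubgroup (E →ₗ[F] E)} (hM : IsCongr M) (a : F) {A : E →ₗ[F] E} (hA : A ∈ M) :
    a • A ∈ M := by
  haveI : Finite F := Finite.of_injective _ (algebraMap F E).injective
  have hsq : ∀ b : F, ∀ B ∈ M, (b * b) • B ∈ M := fun b B hB => by
    have e : (b * b) • B = (mulE (algebraMap F E b)).comp (B.comp (mulE (algebraMap F E b))) :=
      LinearMap.ext fun x => by
        simp only [LinearMap.comp_apply, mulE_apply, LinearMap.smul_apply, ← Algebra.smul_def, map_smul, smul_smul]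
    rw [e]
    exact hM.congr _ _ hB
  obtain ⟨p, hchar⟩ := CharP.exists F
  by_cases h2 : (2 : F) = 0
  · haveI : CharP F 2 := CharTwo.of_one_ne_zero_of_two_eq_zero one_ne_zero h2
    obtain ⟨s, rfl⟩ := FiniteField.isSquare_of_char_two (ringChar.eq F 2) a
    exact hsq s A hA
  · haveI hp : Fact p.Prime := ⟨CharP.char_is_prime F p⟩
    obtain ⟨k, hk⟩ : ∃ k : ℕ, 2 * (k : F) = 1 := by
      refine ⟨(p + 1) / 2, ?_⟩
      have hodd : p % 2 = 1 := by
        rcases hp.out.eq_two_or_odd with h | h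
        · subst h
          exact absurd (CharP.cast_eq_zero F 2) (by simpa using h2)
        · exact h
      have e : 2 * ((p + 1) / 2) = p + 1 := by omega
      have := congrArg (Nat.cast (R := F)) e
      simpa [CharP.cast_eq_zero] using this
    have e : a • A = k • (((a + 1) * (a + 1)) • A - (a * a) • A - (1 * 1 : F) • A) := by
      rw [← Nat.cast_smul_eq_nsmul F]
      refine LinearMap.ext fun x => ?_
      simp only [LinearMap.smul_apply, LinearMap.sub_apply, ← sub_smul, smul_smul]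
      congr 1
      linear_combination (-a) * hk
    rw [e]
    exact nsmul_mem (sub_mem (sub_mem (hsq _ A hA) (hsq _ A hA)) (hsq _ A hA)) _

variable (hr : Module.finrank F E = r) (hp : r.Prime)

include hr hp

/-- A non-zero component spreads over the whole homogeneous part. -/
theorem pair_mem {M : AddSubgroup (E →ₗ[F] E)} (hM : IsCongr M) [Fintype (E ≃ₐ[F] E)] {A : E →ₗ[F] E} (hA : A ∈ M)
    {a : (E ≃ₐ[F] E) → E} (ha : IsCoef A a) {σ : E ≃ₐ[F] E} (hσ : a σ ≠ 0) (t : E) :
    pairMap σ t ∈ M := by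
  classical
  haveI := finiteDimensional (F := F) (E := E)
  haveI : Finite F := Finite.of_injective _ (algebraMap F E).injective
  by_contra hnot
  let Ms : Submodule F (E →ₗ[F] E) :=
    { M.toAddSubmonoid with smul_mem' := fun c A hA => hM.smul_mem c hA }
  obtain ⟨ψ, hψ0, hψM⟩ := Submodule.exists_dual_map_eq_bot_of_notMem (p := Ms) (x := pairMap σ t) hnot inferInstance
  have hψ : ∀ B ∈ M, ψ B = 0 := fun B hB => by
    have h : ψ B ∈ Ms.map ψ := ⟨B, hB, rfl⟩
    rwa [hψM, Submodule.mem_bot] at h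
  -- the functional in coefficients
  have hex : ∀ τ : E ≃ₐ[F] E, ∃ b : E, ∀ c, tr (b * c) = ψ ((mulE c).comp (galMap τ)) := fun τ => by
    let l : Module.Dual F E :=
      { toFun := fun c => ψ ((mulE c).comp (galMap τ))
        map_add' := fun c d => by
          rw [← map_add]
          exact congrArg ψ (LinearMap.ext fun x => by simp [mulE_apply, add_mul])
        map_smul' := fun k c => by
          rw [RingHom.id_apply, ← map_smul]
          exact congrArg ψ (LinearMap.ext fun x => by simp [mulE_apply]) }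
    refine ⟨(LinearMap.BilinForm.toDual (Algebra.traceForm F E) (traceForm_nondegenerate F E)).symm l, fun c => ?_⟩
    have h := LinearMap.BilinForm.apply_toDual_symm_apply (hB := traceForm_nondegenerate F E) l c
    rwa [Algebra.traceForm_apply] at h
  choose b hb using hex
  have hψc : ∀ {B : E →ₗ[F] E} {c : (E ≃ₐ[F] E) → E}, IsCoef B c → ψ B = ∑ τ, tr (b τ * c τ) := by
    intro B c hc
    have e : B = ∑ τ, (mulE (c τ)).comp (galMap τ) := LinearMap.ext fun x => by
      rw [hc, LinearMap.sum_apply]; rfl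
    rw [e, map_sum]
    exact Finset.sum_congr rfl fun τ _ => (hb τ _).symm
  have hpol : ∀ c d, ψ ((mulE c).comp (A.comp (mulE d)) + (mulE d).comp (A.comp (mulE c))) = 0 := fun c d => by
    refine hψ _ ?_
    have e : (mulE c).comp (A.comp (mulE d)) + (mulE d).comp (A.comp (mulE (F := F) c)) =
        (mulE (c + d)).comp (A.comp (mulE (c + d))) - (mulE c).comp (A.comp (mulE c)) -
          (mulE d).comp (A.comp (mulE d)) := LinearMap.ext fun x => by
      simp only [LinearMap.add_apply, LinearMap.sub_apply, LinearMap.comp_apply, mulE_apply, add_mul, map_add]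
      ring
    rw [e]
    exact sub_mem (sub_mem (hM.congr _ _ hA) (hM.congr _ _ hA)) (hM.congr _ _ hA)
  have hcoefcd : ∀ c d, IsCoef ((mulE c).comp (A.comp (mulE (F := F) d))) (fun τ => c * a τ * τ d) := fun c d x => by
    rw [LinearMap.comp_apply, LinearMap.comp_apply, mulE_apply, mulE_apply, ha, Finset.mul_sum]
    refine Finset.sum_congr rfl fun τ _ => ?_
    rw [map_mul]; ring
  have hsym := coef_adj (hM.adj A hA) ha ha
  have hzero : ∀ c, ∑ τ, (b τ * a τ + τ (b τ⁻¹ * a τ⁻¹)) * τ c = 0 := by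
    intro c
    refine (traceForm_nondegenerate F E).2 _ fun d => ?_
    rw [Algebra.traceForm_apply, Finset.mul_sum, map_sum]
    have h := hpol c d
    rw [map_add, hψc (hcoefcd c d), hψc (hcoefcd d c), ← Equiv.sum_comp (Equiv.inv (E ≃ₐ[F] E))
      (fun τ => tr (b τ * (c * a τ * τ d))), ← Finset.sum_add_distrib] at h
    rw [← h]
    refine Finset.sum_congr rfl fun τ _ => ?_
    rw [Equiv.inv_apply, ← tr_gal τ (b τ⁻¹ * (c * a τ⁻¹ * τ⁻¹ d)), ← map_add]
    congr 1
    rw [map_mul τ, map_mul τ, map_mul τ, map_mul τ, show τ (τ⁻¹ d) = d from τ.apply_symm_apply d]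
    ring
  have h1 := gal_sum_eq_zero hzero σ
  rw [map_mul, ← hsym σ] at h1
  have h2 : b σ + σ (b σ⁻¹) = 0 := (mul_eq_zero.mp (show a σ * (b σ + σ (b σ⁻¹)) = 0 by linear_combination h1)).resolve_left hσ
  refine hψ0 ?_
  rw [hψc (coef_pairMap σ t)]
  simp only [Pi.add_apply, mul_add, map_add, Finset.sum_add_distrib]
  rw [Finset.sum_eq_single σ (fun τ _ h => by rw [Pi.single_eq_of_ne h, mul_zero, map_zero]) (by simp),
    Finset.sum_eq_single σ⁻¹ (fun τ _ h => by rw [Pi.single_eq_of_ne h, mul_zero, map_zero]) (by simp),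
    Pi.single_eq_same, Pi.single_eq_same, ← tr_gal σ (b σ⁻¹ * σ⁻¹ t), ← map_add, map_mul σ,
    show σ (σ⁻¹ t) = t from σ.apply_symm_apply t, ← add_mul, h2, zero_mul, map_zero]

/-- Either everything self-adjoint of rank one is there, or some homogeneous part is missing. -/
theorem missing {M : AddSubgroup (E →ₗ[F] E)} (hM : IsCongr M) [Fintype (E ≃ₐ[F] E)]
    (hne : ∃ a : F, a • (Algebra.linearMap F E).comp (tr) ∉ M) :
    ∃ σ : E ≃ₐ[F] E, σ ≠ 1 ∧ ∃ t, pairMap σ t ∉ M := by
  classical
  haveI := finiteDimensional (F := F) (E := E)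
  haveI : Finite F := Finite.of_injective _ (algebraMap F E).injective
  obtain ⟨a, ha⟩ := hne
  by_contra hcon
  push Not at hcon
  refine ha ?_
  have key : ∀ s : Finset (E ≃ₐ[F] E), (∀ σ ∈ s, σ⁻¹ ∈ s ∧ σ ≠ 1) →
      ∑ σ ∈ s, (mulE (algebraMap F E a)).comp (galMap σ) ∈ M := by
    intro s
    induction s using Finset.strongInduction with
    | H s ih =>
      intro hs
      rcases s.eq_empty_or_nonempty with rfl | ⟨σ, hσ⟩
      · rw [Finset.sum_empty]; exact zero_mem M
      by_cases hinv : σ⁻¹ = σ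
      · rw [← Finset.add_sum_erase s _ hσ]
        refine add_mem ?_ (ih _ (Finset.erase_ssubset hσ) fun τ hτ => ?_)
        · obtain ⟨t, ht⟩ := Algebra.trace_surjective F E a
          have hfull : Fintype.card (E ≃ₐ[F] E) = 2 := by
            have h2 : σ ^ 2 = 1 := by
              rw [pow_two]
              conv_lhs => arg 1; rw [← hinv]
              exact inv_mul_cancel σ
            have ho := orderOf_dvd_of_pow_eq_one h2
            have hg : orderOf σ = r := by
              rw [← gal_card hr, ← orderOf_eq_card_of_forall_mem_zpowers (fun x => by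
                rw [gal_zpowers hr hp (hs σ hσ).2]; trivial)]
            rw [hg] at ho
            rw [Fintype.card_eq_nat_card, gal_card hr]
            exact (Nat.prime_dvd_prime_iff_eq hp Nat.prime_two).mp ho
          have huniv : (Finset.univ : Finset (E ≃ₐ[F] E)) = {1, σ} := by
            refine (Finset.eq_univ_of_card _ ?_).symm
            rw [Finset.card_pair (Ne.symm (hs σ hσ).2), hfull]
          have e : (mulE (algebraMap F E a)).comp (galMap σ) = pairMap σ t := by
            refine LinearMap.ext fun x => ?_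
            rw [pairMap_apply, hinv, map_mul, LinearMap.comp_apply, mulE_apply, galMap_apply, ← add_mul, ← ht,
              tr_sum, huniv, Finset.sum_pair (Ne.symm (hs σ hσ).2), AlgEquiv.one_apply]
          rw [e]
          exact hcon σ (hs σ hσ).2 t
        · obtain ⟨hτ1, hτ2⟩ := Finset.mem_erase.mp hτ
          exact ⟨Finset.mem_erase.mpr ⟨fun e => hτ1 (by rw [← inv_inv τ, e, hinv]), (hs τ hτ2).1⟩, (hs τ hτ2).2⟩
      · have hσ' : σ⁻¹ ∈ s.erase σ := Finset.mem_erase.mpr ⟨hinv, (hs σ hσ).1⟩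
        rw [← Finset.add_sum_erase s _ hσ, ← Finset.add_sum_erase _ _ hσ', ← add_assoc]
        refine add_mem ?_ (ih _ ((Finset.erase_ssubset hσ').trans (Finset.erase_ssubset hσ)) fun τ hτ => ?_)
        · have e : (mulE (algebraMap F E a)).comp (galMap σ) + (mulE (algebraMap F E a)).comp (galMap σ⁻¹) =
              pairMap σ (algebraMap F E a) := LinearMap.ext fun x => by
            rw [LinearMap.add_apply, pairMap_apply, map_mul, AlgEquiv.commutes]; rfl
          rw [e]
          exact hcon σ (hs σ hσ).2 _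
        · simp only [Finset.mem_erase] at hτ ⊢
          obtain ⟨hτ1, hτ2, hτ3⟩ := hτ
          exact ⟨⟨fun e => hτ2 (inv_injective e), fun e => hτ1 (by rw [← inv_inv τ, e]), (hs τ hτ3).1⟩, (hs τ hτ3).2⟩
  have hall := key (Finset.univ.erase 1) fun σ hσ => by
    simpa using hσ
  have e : a • (Algebra.linearMap F E).comp tr =
      mulE (algebraMap F E a) + ∑ σ ∈ Finset.univ.erase 1, (mulE (algebraMap F E a)).comp (galMap σ) := by
    refine LinearMap.ext fun x => ?_
    rw [LinearMap.smul_apply, LinearMap.comp_apply, Algebra.linearMap_apply, tr_sum,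
      Finset.smul_sum, LinearMap.add_apply, LinearMap.sum_apply,
      ← Finset.add_sum_erase _ _ (Finset.mem_univ (1 : E ≃ₐ[F] E))]
    simp [Algebra.smul_def, mulE_apply, galMap_apply]
  rw [e]
  exact add_mem (hM.scalar _) hall

/-- The Lie idealiser of a proper congruence-stable group consists of multiplications. -/
theorem isMul_of_lie {M : AddSubgroup (E →ₗ[F] E)} (hM : IsCongr M)
    (hne : ∃ a : F, a • (Algebra.linearMap F E).comp (tr) ∉ M) {Z Z' : E →ₗ[F] E}
    (hZ : ∀ S ∈ M, Z.comp S + S.comp Z' ∈ M) : IsMul Z := by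
  classical
  haveI : Finite (E ≃ₐ[F] E) := Finite.of_injective (fun g : E ≃ₐ[F] E => (g : E → E)) DFunLike.coe_injective
  letI := Fintype.ofFinite (E ≃ₐ[F] E)
  obtain ⟨σ₀, hσ₀, t₀, ht₀⟩ := missing hr hp hM hne
  obtain ⟨z, hz⟩ := exists_coeff hr Z
  obtain ⟨z', hz'⟩ := exists_coeff hr Z'
  let K : (E ≃ₐ[F] E) → Prop := fun σ => σ = 1 ∨ ∀ t, pairMap σ t ∈ M
  have hKinv : ∀ σ, K σ → K σ⁻¹ := fun σ hσ => hσ.elim (fun e => Or.inl (by rw [e, inv_one]))
    (fun h => Or.inr fun t => by rw [pairMap_inv]; exact h _)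
  have hKne : ¬ K σ₀ := fun h => h.elim hσ₀ fun h => ht₀ (h t₀)
  have hout : ∀ {B : E →ₗ[F] E} {c : (E ≃ₐ[F] E) → E}, B ∈ M → IsCoef B c → ∀ ρ, ¬ K ρ → c ρ = 0 := by
    intro B c hB hc ρ hρ
    by_contra h
    exact hρ (Or.inr fun t => pair_mem hr hp hM hB hc h t)
  have hcomb : ∀ {S : E →ₗ[F] E} {s : (E ≃ₐ[F] E) → E}, S ∈ M → IsCoef S s → ∀ ρ, ¬ K ρ →
      ∑ σ, z σ * σ (s (σ⁻¹ * ρ)) + ∑ σ, s σ * σ (z' (σ⁻¹ * ρ)) = 0 := by
    intro S s hS hs ρ hρ
    refine hout (c := fun ρ => ∑ σ, z σ * σ (s (σ⁻¹ * ρ)) + ∑ σ, s σ * σ (z' (σ⁻¹ * ρ))) (hZ S hS) (fun x => ?_) ρ hρ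
    rw [LinearMap.add_apply, coef_comp hz hs x, coef_comp hs hz' x, ← Finset.sum_add_distrib]
    simp only [add_mul]
  have hsupp : ∀ σ, σ ≠ 1 → z σ = 0 := by
    intro σ hσ
    obtain ⟨τ, hτ, hρ⟩ : ∃ τ, K τ ∧ ¬ K (σ * τ) := by
      by_contra hcon
      push Not at hcon
      have hpow : ∀ n : ℕ, K (σ ^ n) := fun n => by
        induction n with
        | zero => exact Or.inl (pow_zero σ)
        | succ n ih => rw [pow_succ']; exact hcon _ ih
      have : σ₀ ∈ Submonoid.powers σ := mem_powers_iff_mem_zpowers.mpr (by rw [gal_zpowers hr hp hσ]; trivial)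
      obtain ⟨n, rfl⟩ := this
      exact hKne (hpow n)
    by_cases hτ1 : τ = 1
    · subst hτ1
      rw [mul_one] at hρ
      have key : ∀ c, z σ * σ c + z' σ * c = 0 := fun c => by
        have h := hcomb (hM.scalar c) (coef_mulE c) σ hρ
        rw [Finset.sum_eq_single σ (fun ρ _ hne => by
            rw [Pi.single_eq_of_ne (fun e => hne (inv_mul_eq_one.mp e)), map_zero, mul_zero]) (by simp),
          Finset.sum_eq_single 1 (fun ρ _ hne => by rw [Pi.single_eq_of_ne hne, zero_mul]) (by simp),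
          inv_mul_cancel, Pi.single_eq_same, inv_one, one_mul, AlgEquiv.one_apply] at h
        rw [← h]; ring
      have h := gal_sum_eq_zero (w := Pi.single σ (z σ) + Pi.single 1 (z' σ)) (fun c => by
        simp only [Pi.add_apply, add_mul, Finset.sum_add_distrib]
        rw [Finset.sum_eq_single σ (fun ρ _ hne => by rw [Pi.single_eq_of_ne hne, zero_mul]) (by simp),
          Finset.sum_eq_single 1 (fun ρ _ hne => by rw [Pi.single_eq_of_ne hne, zero_mul]) (by simp),
          Pi.single_eq_same, Pi.single_eq_same]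
        exact key c) σ
      simpa [Pi.single_eq_of_ne hσ] using h
    · have hp' : ∀ t, pairMap τ t ∈ M := hτ.resolve_left hτ1
      set ρ := σ * τ with hρdef
      obtain ⟨w, hwdef⟩ : ∃ w : (E ≃ₐ[F] E) → E, w = Pi.single σ (z σ) + Pi.single ρ (z (ρ * τ)) +
          Pi.single 1 (τ (z' (τ⁻¹ * ρ))) + Pi.single τ⁻¹ (τ⁻¹ (z' (τ * ρ))) := ⟨_, rfl⟩
      have key : ∀ t, ∑ π, w π * π t = 0 := fun t => by
        have h := hcomb (hp' t) (coef_pairMap τ t) ρ hρ
        simp only [Pi.add_apply, mul_add, map_add, add_mul, Finset.sum_add_distrib] at h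
        rw [Finset.sum_eq_single σ (fun π _ hne => by
            rw [Pi.single_eq_of_ne (fun e => hne (mul_right_cancel (b := τ) (by
              rw [← hρdef]; exact (inv_mul_eq_iff_eq_mul.mp e).symm))), map_zero, mul_zero]) (by simp),
          Finset.sum_eq_single (ρ * τ) (fun π _ hne => by
            rw [Pi.single_eq_of_ne (fun e => hne (by
              rw [inv_mul_eq_iff_eq_mul] at e
              rw [e, inv_mul_cancel_right])), map_zero, mul_zero]) (by simp),
          Finset.sum_eq_single τ (fun π _ hne => by rw [Pi.single_eq_of_ne hne, zero_mul]) (by simp),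
          Finset.sum_eq_single τ⁻¹ (fun π _ hne => by rw [Pi.single_eq_of_ne hne, zero_mul]) (by simp),
          show σ⁻¹ * ρ = τ from inv_mul_cancel_left σ τ, show (ρ * τ)⁻¹ * ρ = τ⁻¹ by group,
          inv_inv, Pi.single_eq_same, Pi.single_eq_same, AlgEquiv.mul_apply, show τ (τ⁻¹ t) = t from τ.apply_symm_apply t] at h
        simp only [hwdef, Pi.add_apply, add_mul, Finset.sum_add_distrib]
        rw [Finset.sum_eq_single σ (fun π _ hne => by rw [Pi.single_eq_of_ne hne, zero_mul]) (by simp),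
          Finset.sum_eq_single ρ (fun π _ hne => by rw [Pi.single_eq_of_ne hne, zero_mul]) (by simp),
          Finset.sum_eq_single 1 (fun π _ hne => by rw [Pi.single_eq_of_ne hne, zero_mul]) (by simp),
          Finset.sum_eq_single τ⁻¹ (fun π _ hne => by rw [Pi.single_eq_of_ne hne, zero_mul]) (by simp),
          Pi.single_eq_same, Pi.single_eq_same, Pi.single_eq_same, Pi.single_eq_same, AlgEquiv.one_apply]
        rw [← h]; ring
      have h := gal_sum_eq_zero key σ
      have hσρ : σ ≠ ρ := fun e => hτ1 (mul_left_cancel (a := σ) (by rw [mul_one, ← hρdef, ← e]))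
      have hστ : σ ≠ τ⁻¹ := fun e => hρ (Or.inl (by rw [hρdef, e, inv_mul_cancel]))
      simpa [hwdef, Pi.single_eq_of_ne hσρ, Pi.single_eq_of_ne hσ, Pi.single_eq_of_ne hστ] using h
  intro x
  have e : ∀ y, Z y = z 1 * y := fun y => by
    rw [hz, Finset.sum_eq_single 1 (fun σ _ hσ => by rw [hsupp σ hσ, zero_mul]) (by simp), AlgEquiv.one_apply]
  rw [e x, e 1, mul_one]

end Cfsg.Agent.Classical.FieldExt.Symp
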