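/-
A symplectic space over `E` seen over `F` through the trace: transvection-like isometries and moves.
-/
import Cfsg.Agent.Lib.Classical.FieldExt.Symp.Sym

set_option autoImplicit false
set_option linter.style.haveILetI false
set_option linter.unusedSectionVars false

namespace Cfsg.Agent.Classical.FieldExt.Symp

open Cfsg.Agent.Classical.FieldExt

variable {F E V : Type*} [Field F] [Field E] [Algebra F E] [Finite E] [AddCommGroup V] [Module F V] [Module E V]
  [IsScalarTower F E V] [Finite V]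

/-- The trace. -/
local notation "tr" => Algebra.trace F E

instance gf_finite : Finite (V ≃ₗ[F] V) :=
  Finite.of_injective (fun g : V ≃ₗ[F] V => (g : V → V)) DFunLike.coe_injective

/-- A non-degenerate alternating form over `E`. -/
structure IsSymp (φ : V →ₗ[E] V →ₗ[E] E) : Prop where
  alt : ∀ x, φ x x = 0
  nondeg : ∀ x, (∀ y, φ x y = 0) → x = 0

variable {φ : V →ₗ[E] V →ₗ[E] E} (hφ : IsSymp φ)

/-- The isometries of the trace form. -/
def Isom (F : Type*) {E V : Type*} [Field F] [Field E] [Algebra F E] [AddCommGroup V] [Module F V] [Module E V]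
    (φ : V →ₗ[E] V →ₗ[E] E) : Subgroup (V ≃ₗ[F] V) where
  carrier := {g | ∀ x y, Algebra.trace F E (φ (g x) (g y)) = Algebra.trace F E (φ x y)}
  one_mem' := fun _ _ => rfl
  mul_mem' := fun {a b} ha hb x y => by rw [LinearEquiv.mul_apply, LinearEquiv.mul_apply, ha, hb]
  inv_mem' := fun {a} ha x y => by
    rw [← ha (a⁻¹ x) (a⁻¹ y), show a (a⁻¹ x) = x from a.apply_symm_apply x, show a (a⁻¹ y) = y from a.apply_symm_apply y]

/-- Semilinearity over `E`. -/
def SemiV (E : Type*) {F V : Type*} [Field F] [Field E] [AddCommGroup V] [Module F V] [Module E V] (g : V ≃ₗ[F] V) :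
    Prop :=
  ∃ σ : E → E, ∀ (c : E) (v : V), g (c • v) = σ c • g v

include hφ

theorem anti (x y : V) : φ y x = -φ x y := by
  have h := hφ.alt (x + y)
  simp only [map_add, LinearMap.add_apply, hφ.alt, zero_add, add_zero] at h
  exact eq_neg_of_add_eq_zero_left h

theorem eq_zero_of_tr {x : V} (h : ∀ y, tr (φ x y) = 0) : x = 0 := by
  haveI := finiteDimensional (F := F) (E := E)
  haveI : Finite F := Finite.of_injective _ (algebraMap F E).injective
  refine hφ.nondeg x fun y => (traceForm_nondegenerate F E).2 _ fun c => ?_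
  rw [Algebra.traceForm_apply, ← smul_eq_mul, ← map_smul]
  exact h _

theorem exists_dual {e : V} (he : e ≠ 0) : ∃ e', φ e' e = 1 := by
  by_contra hcon
  push Not at hcon
  refine he (hφ.nondeg e fun y => by_contra fun hy => hcon (-(φ e y)⁻¹ • y) ?_)
  rw [map_smul, LinearMap.smul_apply, anti hφ e y, smul_eq_mul, neg_mul_neg, inv_mul_cancel₀ hy]

theorem decomp {e e' : V} (he' : φ e' e = 1) (x : V) : φ (x - φ x e • e') e = 0 := by
  rw [map_sub, LinearMap.sub_apply, map_smul, LinearMap.smul_apply, he', smul_eq_mul, mul_one, sub_self]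

/-- A vector orthogonal to `e^⊥` lies on the line. -/
theorem eq_smul_of_perp {e e' : V} (he' : φ e' e = 1) {x : V} (h : ∀ u, φ u e = 0 → φ u x = 0) :
    x = φ e' x • e := by
  refine sub_eq_zero.mp (hφ.nondeg _ fun y => ?_)
  rw [anti hφ y, map_sub, map_smul, smul_eq_mul]
  have h1 := h _ (decomp hφ he' y)
  rw [map_sub, LinearMap.sub_apply, map_smul, LinearMap.smul_apply, smul_eq_mul, sub_eq_zero] at h1
  rw [h1]; ring

omit hφ

variable (φ) in
/-- The map `x ↦ x + S (φ x v) • v`. -/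
def tvMap (v : V) (S : E →ₗ[F] E) : V →ₗ[F] V :=
  LinearMap.id + ((LinearMap.toSpanSingleton E V v).restrictScalars F).comp (S.comp ((φ.flip v).restrictScalars F))

theorem tvMap_apply (v : V) (S : E →ₗ[F] E) (x : V) : tvMap φ v S x = x + S (φ x v) • v := rfl

/-- The transvection-like isometry with centre `v`. -/
def tvT (hφ : IsSymp φ) (v : V) (S : E →ₗ[F] E) : V ≃ₗ[F] V :=
  LinearEquiv.ofLinearMap (tvMap φ v S) (tvMap φ v (-S))
    (LinearMap.ext fun x => by
      simp only [LinearMap.comp_apply, tvMap_apply, LinearMap.id_apply, map_add, map_smul, LinearMap.add_apply,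
        LinearMap.smul_apply, hφ.alt, smul_eq_mul, mul_zero, map_zero, add_zero, LinearMap.neg_apply, neg_smul, add_assoc]
      simp [hφ.alt])
    (LinearMap.ext fun x => by
      simp only [LinearMap.comp_apply, tvMap_apply, LinearMap.id_apply, map_add, map_smul, LinearMap.add_apply,
        LinearMap.smul_apply, hφ.alt, smul_eq_mul, mul_zero, map_zero, add_zero, LinearMap.neg_apply, neg_smul, add_assoc]
      simp [hφ.alt])

theorem tvT_apply (hφ : IsSymp φ) (v : V) (S : E →ₗ[F] E) (x : V) : tvT hφ v S x = x + S (φ x v) • v := rfl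

theorem tvT_mul (hφ : IsSymp φ) (v : V) (S S' : E →ₗ[F] E) : tvT hφ v S * tvT hφ v S' = tvT hφ v (S + S') := by
  refine LinearEquiv.ext fun x => ?_
  rw [LinearEquiv.mul_apply, tvT_apply, tvT_apply, tvT_apply, map_add, LinearMap.add_apply, map_smul,
    LinearMap.smul_apply, hφ.alt, smul_zero, add_zero, LinearMap.add_apply, add_smul]
  abel

theorem tvT_zero (hφ : IsSymp φ) (v : V) : tvT hφ v (0 : E →ₗ[F] E) = 1 :=
  LinearEquiv.ext fun x => by rw [tvT_apply, LinearMap.zero_apply, zero_smul, add_zero]; rfl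

theorem tvT_inv (hφ : IsSymp φ) (v : V) (S : E →ₗ[F] E) : (tvT hφ v S)⁻¹ = tvT hφ v (-S) :=
  inv_eq_of_mul_eq_one_right (by rw [tvT_mul, add_neg_cancel, tvT_zero])

theorem tvT_mulE_smul (hφ : IsSymp φ) (v : V) (a c : E) (x : V) :
    tvT hφ v (mulE (F := F) a) (c • x) = c • tvT hφ v (mulE (F := F) a) x := by
  rw [tvT_apply, tvT_apply, map_smul, LinearMap.smul_apply, mulE_apply, mulE_apply, smul_eq_mul, smul_add, smul_smul]
  congr 2; ring

theorem tvT_mulE_isom (hφ : IsSymp φ) (v : V) (a : E) (x y : V) :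
    φ (tvT hφ v (mulE (F := F) a) x) (tvT hφ v (mulE (F := F) a) y) = φ x y := by
  simp only [tvT_apply, mulE_apply, map_add, map_smul, LinearMap.add_apply, LinearMap.smul_apply, hφ.alt,
    smul_eq_mul]
  rw [anti hφ y v]
  ring

variable (φ) in
/-- The map `x ↦ x + φ(x,e) u + φ(x,u) e`. -/
def rhoMap (F : Type*) [Field F] [Algebra F E] [Module F V] [IsScalarTower F E V] (e u : V) : V →ₗ[F] V :=
  (LinearMap.id + (LinearMap.toSpanSingleton E V u).comp (φ.flip e) +
    (LinearMap.toSpanSingleton E V e).comp (φ.flip u)).restrictScalars F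

theorem rhoMap_apply (e u x : V) : rhoMap φ F e u x = x + φ x e • u + φ x u • e := rfl

/-- The Eichler element. -/
def rho (hφ : IsSymp φ) (F : Type*) [Field F] [Algebra F E] [Module F V] [IsScalarTower F E V] {e u : V}
    (hu : φ u e = 0) : V ≃ₗ[F] V :=
  LinearEquiv.ofLinearMap (rhoMap φ F e u) (rhoMap φ F e (-u))
    (LinearMap.ext fun x => by
      have hu' : φ e u = 0 := by rw [anti hφ u e, hu, neg_zero]
      simp only [LinearMap.comp_apply, rhoMap_apply, LinearMap.id_apply, map_add, map_smul, map_neg,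
        LinearMap.add_apply, LinearMap.smul_apply, LinearMap.neg_apply, hφ.alt, hu, hu', smul_eq_mul, mul_zero,
        add_zero, zero_smul, smul_zero, neg_zero, smul_neg, neg_smul]
      abel)
    (LinearMap.ext fun x => by
      have hu' : φ e u = 0 := by rw [anti hφ u e, hu, neg_zero]
      simp only [LinearMap.comp_apply, rhoMap_apply, LinearMap.id_apply, map_add, map_smul, map_neg,
        LinearMap.add_apply, LinearMap.smul_apply, LinearMap.neg_apply, hφ.alt, hu, hu', smul_eq_mul, mul_zero,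
        add_zero, zero_smul, smul_zero, neg_zero, smul_neg, neg_smul]
      abel)

theorem rho_apply (hφ : IsSymp φ) {e u : V} (hu : φ u e = 0) (x : V) :
    rho hφ F hu x = x + φ x e • u + φ x u • e := rfl

theorem rho_smul (hφ : IsSymp φ) {e u : V} (hu : φ u e = 0) (c : E) (x : V) :
    rho hφ F hu (c • x) = c • rho hφ F hu x := by
  simp only [rho_apply, map_smul, LinearMap.smul_apply, smul_eq_mul, smul_add, mul_smul]

theorem rho_isom (hφ : IsSymp φ) {e u : V} (hu : φ u e = 0) (x y : V) :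
    φ (rho hφ F hu x) (rho hφ F hu y) = φ x y := by
  have hu' : φ e u = 0 := by rw [anti hφ u e, hu, neg_zero]
  simp only [rho_apply, map_add, map_smul, LinearMap.add_apply, LinearMap.smul_apply, hφ.alt, hu, hu',
    smul_eq_mul]
  rw [anti hφ y u, anti hφ y e]
  ring

theorem rho_mul (hφ : IsSymp φ) {e u u' : V} (hu : φ u e = 0) (hu' : φ u' e = 0) (hadd : φ (u + u') e = 0)
    (h : φ u' u = 0) : rho hφ F hu * rho hφ F hu' = rho hφ F hadd := by
  refine LinearEquiv.ext fun x => ?_
  have h1 : φ e u = 0 := by rw [anti hφ u e, hu, neg_zero]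
  simp only [LinearEquiv.mul_apply, rho_apply, map_add, map_smul, LinearMap.add_apply, LinearMap.smul_apply,
    hφ.alt, hu', h, h1, smul_eq_mul, mul_zero, add_zero]
  module

/-- `g` is an `E`-linear isometry. -/
def LinIso (φ : V →ₗ[E] V →ₗ[E] E) (g : V ≃ₗ[F] V) : Prop :=
  (∀ (c : E) x, g (c • x) = c • g x) ∧ ∀ x y, φ (g x) (g y) = φ x y

theorem tvT_linIso (hφ : IsSymp φ) (v : V) (a : E) : LinIso φ (tvT hφ v (mulE (F := F) a)) :=
  ⟨tvT_mulE_smul hφ v a, tvT_mulE_isom hφ v a⟩

theorem rho_linIso (hφ : IsSymp φ) {e u : V} (hu : φ u e = 0) : LinIso φ (rho hφ F hu) :=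
  ⟨rho_smul hφ hu, rho_isom hφ hu⟩

theorem LinIso.mul {g h : V ≃ₗ[F] V} (hg : LinIso φ g) (hh : LinIso φ h) : LinIso φ (g * h) :=
  ⟨fun c x => by rw [LinearEquiv.mul_apply, LinearEquiv.mul_apply, hh.1, hg.1],
    fun x y => by rw [LinearEquiv.mul_apply, LinearEquiv.mul_apply, hg.2, hh.2]⟩

theorem tvT_conj (hφ : IsSymp φ) {g : V ≃ₗ[F] V} (hg : LinIso φ g) (v : V) (S : E →ₗ[F] E) :
    g * tvT hφ v S * g⁻¹ = tvT hφ (g v) S := by
  rw [mul_inv_eq_iff_eq_mul]
  refine LinearEquiv.ext fun x => ?_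
  rw [LinearEquiv.mul_apply, LinearEquiv.mul_apply, tvT_apply, tvT_apply, map_add, hg.1, hg.2]

theorem tvT_scale (hφ : IsSymp φ) (v : V) (c : E) (S : E →ₗ[F] E) :
    tvT hφ (c • v) S = tvT hφ v ((mulE c).comp (S.comp (mulE c))) := by
  refine LinearEquiv.ext fun x => ?_
  rw [tvT_apply, tvT_apply, map_smul, smul_eq_mul, LinearMap.comp_apply, LinearMap.comp_apply, mulE_apply, mulE_apply,
    smul_smul, mul_comm c (S _)]

/-- Isometries fixing a line preserve the pairing with it. -/
theorem pair_line {g : V ≃ₗ[F] V} (hg : g ∈ Isom F φ) {e : V} (hfix : ∀ c : E, g (c • e) = c • e) (x : V) :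
    φ (g x) e = φ x e := by
  haveI := finiteDimensional (F := F) (E := E)
  haveI : Finite F := Finite.of_injective _ (algebraMap F E).injective
  refine sub_eq_zero.mp ((traceForm_nondegenerate F E).2 _ fun c => ?_)
  rw [Algebra.traceForm_apply, mul_sub, map_sub, sub_eq_zero, ← smul_eq_mul, ← map_smul, ← smul_eq_mul,
    ← map_smul (φ x)]
  have h := hg x (c • e)
  rwa [hfix] at h

section Moves

variable {X : Subgroup (V ≃ₗ[F] V)} (hN : ∀ g : V ≃ₗ[F] V, SemiV E g → g ∈ Isom F φ → g ∈ X)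

include hN

theorem linIso_mem {g : V ≃ₗ[F] V} (hg : LinIso φ g) : g ∈ X :=
  hN g ⟨id, hg.1⟩ fun x y => by rw [hg.2]

theorem exists_move (hφ : IsSymp φ) {x y : V} (hx : x ≠ 0) (hy : y ≠ 0) :
    ∃ h ∈ X, LinIso φ h ∧ h x = y := by
  have step : ∀ x y : V, φ x y ≠ 0 → ∃ h ∈ X, LinIso φ h ∧ h x = y := fun x y h => by
    refine ⟨tvT hφ (y - x) (mulE ((φ x y)⁻¹ * (φ x y)⁻¹ * φ x y)), linIso_mem hN (tvT_linIso hφ _ _),
      tvT_linIso hφ _ _, ?_⟩
    rw [tvT_apply, map_sub, hφ.alt, sub_zero, mulE_apply,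
      show (φ x y)⁻¹ * (φ x y)⁻¹ * φ x y * φ x y = 1 by field_simp, one_smul, add_sub_cancel]
  by_cases h : φ x y = 0
  · obtain ⟨a, ha⟩ : ∃ a, φ x a ≠ 0 := by
      by_contra hc
      push Not at hc
      exact hx (hφ.nondeg x hc)
    obtain ⟨b, hb⟩ : ∃ b, φ b y ≠ 0 := by
      by_contra hc
      push Not at hc
      exact hy (hφ.nondeg y fun z => by rw [anti hφ z y, hc, neg_zero])
    obtain ⟨z, hz1, hz2⟩ : ∃ z, φ x z ≠ 0 ∧ φ z y ≠ 0 := by
      by_cases h1 : φ a y = 0
      · by_cases h2 : φ x b = 0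
        · exact ⟨a + b, by rw [map_add, h2, add_zero]; exact ha,
            by rw [map_add, LinearMap.add_apply, h1, zero_add]; exact hb⟩
        · exact ⟨b, h2, hb⟩
      · exact ⟨a, ha, h1⟩
    obtain ⟨h1, h1X, h1l, h1e⟩ := step x z hz1
    obtain ⟨h2, h2X, h2l, h2e⟩ := step z y hz2
    exact ⟨h2 * h1, X.mul_mem h2X h1X, h2l.mul h1l, by rw [LinearEquiv.mul_apply, h1e, h2e]⟩
  · exact step x y h

end Moves

end Cfsg.Agent.Classical.FieldExt.Symp
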