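/-
The short elements of an overgroup: their middle component is `E`-linear unless everything is present.
-/
import Cfsg.Agent.Lib.Classical.FieldExt.Symp.Basic

set_option autoImplicit false
set_option linter.style.haveILetI false
set_option linter.unusedSectionVars false

namespace Cfsg.Agent.Classical.FieldExt.Symp

open Cfsg.Agent.Classical.FieldExt

variable {F E V : Type*} [Field F] [Field E] [Algebra F E] [Finite E] [AddCommGroup V] [Module F V] [Module E V]
  [IsScalarTower F E V] [Finite V] {φ : V →ₗ[E] V →ₗ[E] E} (hφ : IsSymp φ) {X : Subgroup (V ≃ₗ[F] V)}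

/-- The trace. -/
local notation "tr" => Algebra.trace F E

/-- The long root part of `X` at `e`. -/
def Mlong (X : Subgroup (V ≃ₗ[F] V)) (e : V) : AddSubgroup (E →ₗ[F] E) where
  carrier := {S | tvT hφ e S ∈ X}
  zero_mem' := show tvT hφ e 0 ∈ X by rw [tvT_zero]; exact one_mem X
  add_mem' {a b} ha hb := show tvT hφ e (a + b) ∈ X by rw [← tvT_mul]; exact mul_mem ha hb
  neg_mem' {a} ha := show tvT hφ e (-a) ∈ X by rw [← tvT_inv]; exact inv_mem ha

theorem mem_Mlong {e : V} {S : E →ₗ[F] E} : S ∈ Mlong hφ X e ↔ tvT hφ e S ∈ X := Iff.rfl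

/-- Fixing a line and acting trivially on its orthogonal modulo it. -/
def IsShort (φ : V →ₗ[E] V →ₗ[E] E) (e : V) (g : V ≃ₗ[F] V) : Prop :=
  (∀ c : E, g (c • e) = c • e) ∧ ∀ v, φ v e = 0 → ∃ k : E, g v = v + k • e

variable (hN : ∀ g : V ≃ₗ[F] V, SemiV E g → g ∈ Isom F φ → g ∈ X) (hX : X ≤ Isom F φ)

include hX in
theorem isAdj_of_mem {e e' : V} (he' : φ e' e = 1) {S : E →ₗ[F] E} (hS : S ∈ Mlong hφ X e) : IsAdj S S := by
  intro a b
  have h := hX hS (a • e') (b • e')
  simp only [tvT_apply, map_add, map_smul, LinearMap.add_apply, LinearMap.smul_apply, hφ.alt, smul_eq_mul,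
    anti hφ e' e, he', mul_zero, mul_one, mul_neg, map_neg, map_zero, add_zero, zero_add] at h
  have e1 : tr (a * S b) - tr (b * S a) = 0 := by
    rw [mul_comm (S b) a] at h
    linear_combination h
  rw [mul_comm (S a)]
  exact (sub_eq_zero.mp e1).symm

include hN

theorem mulE_mem_Mlong (e : V) (c : E) : mulE c ∈ Mlong hφ X e := linIso_mem hN (tvT_linIso hφ e c)

theorem Mlong_move {e v : V} (he : e ≠ 0) (hv : v ≠ 0) {S : E →ₗ[F] E} (hS : S ∈ Mlong hφ X e) :
    S ∈ Mlong hφ X v := by
  obtain ⟨h, hh, hl, he'⟩ := exists_move hN hφ he hv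
  rw [mem_Mlong, ← he', ← tvT_conj hφ hl]
  exact X.mul_mem (X.mul_mem hh hS) (X.inv_mem hh)

include hX

theorem isCongr {e e' : V} (he' : φ e' e = 1) : IsCongr (Mlong hφ X e) := by
  refine ⟨fun A hA => isAdj_of_mem hφ hX he' hA, mulE_mem_Mlong hφ hN e, fun c A hA => ?_⟩
  by_cases hc : c = 0
  · have e0 : (mulE (F := F) (0 : E)).comp (A.comp (mulE (0 : E))) = 0 := LinearMap.ext fun x => by simp [mulE_apply]
    rw [hc, e0]
    exact zero_mem _
  have he : e ≠ 0 := fun h => one_ne_zero (α := E) (by rw [← he', h, map_zero])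
  rw [mem_Mlong, ← tvT_scale]
  exact Mlong_move hφ hN he (smul_ne_zero hc he) hA

omit hN in
/-- The commutator of a short element with an Eichler element is long. -/
theorem short_comm {e e' : V} (he' : φ e' e = 1) {g : V ≃ₗ[F] V} (hg : g ∈ X) (hs : IsShort φ e g) {u : V}
    (hu : φ u e = 0) (hρ : rho hφ F hu ∈ X) :
    ∃ A B : E →ₗ[F] E, (∀ a, A a = φ u (g (a • e') - a • e')) ∧ (∀ a, B a = φ e' (g (a • u) - a • u)) ∧
      IsAdj B A ∧ B + A ∈ Mlong hφ X e := by
  have hgi := hX hg
  let β : E →ₗ[F] V := g.toLinearMap.comp ((LinearMap.toSpanSingleton E V e').restrictScalars F) -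
    (LinearMap.toSpanSingleton E V e').restrictScalars F
  have hβ : ∀ a, β a = g (a • e') - a • e' := fun a => rfl
  let A : E →ₗ[F] E := ((φ u).restrictScalars F).comp β
  let B : E →ₗ[F] E := ((φ e').restrictScalars F).comp
    (g.toLinearMap.comp ((LinearMap.toSpanSingleton E V u).restrictScalars F) -
      (LinearMap.toSpanSingleton E V u).restrictScalars F)
  have hB : ∀ a, B a = φ e' (g (a • u) - a • u) := fun a => rfl
  have hβe : ∀ a, φ (β a) e = 0 := fun a => by
    rw [hβ, map_sub, LinearMap.sub_apply, pair_line hgi hs.1, sub_self]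
  have hγ : ∀ v, φ v e = 0 → g v = v + φ e' (g v - v) • e := fun v hv => by
    obtain ⟨k, hk⟩ := hs.2 v hv
    rw [hk, add_sub_cancel_left, map_smul, he', smul_eq_mul, mul_one]
  have hau : ∀ a : E, φ (a • u) e = 0 := fun a => by rw [map_smul, LinearMap.smul_apply, hu, smul_zero]
  refine ⟨A, B, fun a => rfl, hB, fun a b => ?_, ?_⟩
  · have h := hgi (a • u) (b • e')
    have hb : g (b • e') = b • e' + β b := by rw [hβ, add_sub_cancel]
    rw [hγ _ (hau a), hb, ← hB] at h
    have h0 : φ e (β b) = 0 := by rw [anti hφ (β b) e, hβe, neg_zero]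
    simp only [map_add, map_smul, LinearMap.add_apply, LinearMap.smul_apply, smul_eq_mul, h0, anti hφ e' e, he',
      mul_zero, map_zero, add_zero] at h
    rw [mul_add, map_add, mul_neg, mul_one, mul_neg, map_neg] at h
    change tr (B a * b) = tr (a * A b)
    have hA : A b = φ u (β b) := rfl
    rw [hA, mul_comm (B a)]
    linear_combination -h
  have hcomm : g * rho hφ F hu = tvT hφ e (B + A) * (rho hφ F hu * g) := by
    refine LinearEquiv.ext fun x => ?_
    have hgx : g x = x + β (φ x e) + φ e' (g (x - φ x e • e') - (x - φ x e • e')) • e := by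
      have hv := hγ _ (decomp hφ he' x)
      have e1 : g x = g (φ x e • e') + g (x - φ x e • e') := by rw [← map_add, add_sub_cancel]
      conv_lhs => rw [e1, hv]
      rw [hβ]
      abel
    have he0 : φ e u = 0 := by rw [anti hφ u e, hu, neg_zero]
    have hgu : g (φ x e • u) = φ x e • u + φ e' (g (φ x e • u) - φ x e • u) • e := hγ _ (hau (φ x e))
    rw [LinearEquiv.mul_apply, LinearEquiv.mul_apply, LinearEquiv.mul_apply, rho_apply, rho_apply, map_add, map_add,
      hs.1, hgu]
    simp only [LinearEquiv.mul_apply, rho_apply, tvT_apply, map_add, map_smul,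
      LinearMap.add_apply, LinearMap.smul_apply, hφ.alt, hu, pair_line hgi hs.1 x, smul_eq_mul, mul_zero, add_zero,
      map_zero]
    have hb : φ (g x) u = φ x u + φ (β (φ x e)) u := by
      rw [hgx, map_add, LinearMap.add_apply, map_add, LinearMap.add_apply, map_smul, LinearMap.smul_apply, he0,
        smul_zero, add_zero]
    have hA : A (φ x e) = φ u (β (φ x e)) := rfl
    rw [hb, hA, anti hφ u (β (φ x e)), hB]
    module
  rw [mem_Mlong]
  have e1 : tvT hφ e (B + A) = g * rho hφ F hu * (rho hφ F hu * g)⁻¹ := by rw [hcomm, mul_inv_cancel_right]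
  rw [e1]
  exact X.mul_mem (X.mul_mem hg hρ) (X.inv_mem (X.mul_mem hρ hg))

/-- With two dimensions in the middle, the long part is linear unless it is everything. -/
theorem isMul_Mlong {r : ℕ} (hr : Module.finrank F E = r) (hp : r.Prime) {e e' w : V} (he' : φ e' e = 1)
    (hw : φ w e = 0) (hwe : ∀ c : E, w ≠ c • e)
    (hne : ∃ a : F, a • (Algebra.linearMap F E).comp tr ∉ Mlong hφ X e) {S' : E →ₗ[F] E}
    (hS' : S' ∈ Mlong hφ X e) : IsMul S' := by
  have he : e ≠ 0 := fun h => one_ne_zero (α := E) (by rw [← he', h, map_zero])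
  obtain ⟨w', hw'e, hw'⟩ : ∃ w', φ w' e = 0 ∧ φ w w' = 1 := by
    by_contra hcon
    push Not at hcon
    refine hwe (φ e' w) (eq_smul_of_perp hφ he' fun u hu => ?_)
    by_contra h
    refine hcon ((-(φ u w)⁻¹) • u) (by rw [map_smul, LinearMap.smul_apply, hu, smul_zero]) ?_
    rw [map_smul, anti hφ u w, smul_eq_mul, neg_mul_neg, inv_mul_cancel₀ h]
  have hw0 : w ≠ 0 := fun h => hwe 0 (by rw [h, zero_smul])
  have hwe0 : w + e ≠ 0 := fun h => hwe (-1) (by rw [neg_one_smul]; exact eq_neg_of_add_eq_zero_left h)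
  have hw'0 : w' ≠ 0 := fun h => one_ne_zero (α := E) (by rw [← hw', h, map_zero])
  have hew : φ e w = 0 := by rw [anti hφ w e, hw, neg_zero]
  have hew' : φ e w' = 0 := by rw [anti hφ w' e, hw'e, neg_zero]
  refine isMul_of_lie hr hp (isCongr hφ hN hX he') hne (Z := S') (Z' := S') fun S hS => ?_
  let T' := tvT hφ w' S'
  let g₁ := tvT hφ (w + e) S * tvT hφ w (-S)
  let g₂ := T' * g₁ * T'⁻¹
  have hg₁ : g₁ ∈ X := X.mul_mem (Mlong_move hφ hN he hwe0 hS)
    (Mlong_move hφ hN he hw0 (neg_mem hS))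
  have hT' : T' ∈ X := Mlong_move hφ hN he hw'0 hS'
  have hg₁a : ∀ x, g₁ x = x + S (φ x e) • w + (S (φ x e) + S (φ x w)) • e := fun x => by
    simp only [g₁, LinearEquiv.mul_apply, tvT_apply, map_add, map_smul, LinearMap.add_apply, LinearMap.smul_apply,
      LinearMap.neg_apply, hφ.alt, hw, smul_eq_mul, mul_zero, add_zero, map_zero]
    module
  have hg₂a : ∀ x, ∃ k : E, g₂ x = x + S (φ x e) • w + S' (S (φ x e)) • w' + k • e := fun x => by
    refine ⟨S (φ x e) + S (φ (T'⁻¹ x) w), ?_⟩
    have ht : T'⁻¹ x = x + (-S') (φ x w') • w' := by simp only [T', tvT_inv]; rfl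
    simp only [g₂, LinearEquiv.mul_apply, hg₁a]
    simp only [T', tvT_apply, map_add, map_smul, LinearMap.add_apply, LinearMap.smul_apply, hew', hw', hφ.alt,
      smul_eq_mul, mul_zero, add_zero, mul_one, ht, LinearMap.neg_apply, map_neg, hw'e, map_zero]
    module
  have hs : IsShort φ e g₂ := by
    refine ⟨fun c => ?_, fun v hv => ?_⟩
    · simp only [g₂, g₁, T', LinearEquiv.mul_apply, tvT_inv, tvT_apply, map_add, map_smul, LinearMap.smul_apply,
        LinearMap.add_apply, hew, hew', hφ.alt, smul_eq_mul, mul_zero, map_zero, zero_smul, add_zero]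
    · obtain ⟨k, hk⟩ := hg₂a v
      exact ⟨k, by rw [hk, hv, map_zero, map_zero, zero_smul, zero_smul, add_zero, add_zero]⟩
  obtain ⟨A, B, hA, -, hadj, hmem⟩ := short_comm hφ hX he' (X.mul_mem (X.mul_mem hT' hg₁) (X.inv_mem hT')) hs hw
    (linIso_mem hN (rho_linIso hφ hw))
  have hA' : A = S'.comp S := LinearMap.ext fun a => by
    obtain ⟨k, hk⟩ := hg₂a (a • e')
    rw [hA, hk, map_smul φ a e', LinearMap.smul_apply, he', smul_eq_mul, mul_one, LinearMap.comp_apply]
    simp only [map_sub, map_add, map_smul, hφ.alt, hw, hw', anti hφ e w, hew, smul_eq_mul, mul_zero, mul_one,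
      add_zero, zero_add, neg_zero]
    ring
  have hB : B = S.comp S' := by
    haveI := finiteDimensional (F := F) (E := E)
    haveI : Finite F := Finite.of_injective _ (algebraMap F E).injective
    refine LinearMap.ext fun a => sub_eq_zero.mp ((traceForm_nondegenerate F E).1 _ fun b => ?_)
    rw [Algebra.traceForm_apply, sub_mul, map_sub, hadj a b, hA', LinearMap.comp_apply, LinearMap.comp_apply,
      isAdj_of_mem hφ hX he' hS (S' a) b, isAdj_of_mem hφ hX he' hS' a (S b), sub_self]
  rw [hA', hB, add_comm] at hmem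
  exact hmem

/-- Short elements of a proper overgroup have linear middle component. -/
theorem short_linear {r : ℕ} (hr : Module.finrank F E = r) (hp : r.Prime) {e e' : V} (he' : φ e' e = 1)
    (hne : ∃ a : F, a • (Algebra.linearMap F E).comp tr ∉ Mlong hφ X e) {g : V ≃ₗ[F] V} (hg : g ∈ X)
    (hs : IsShort φ e g) (a : E) {u : V} (hu : φ u e = 0) :
    φ u (g (a • e') - a • e') = a * φ u (g e' - e') := by
  by_cases hue : ∃ c : E, u = c • e
  · obtain ⟨c, rfl⟩ := hue
    have h1 : ∀ x, φ (c • e) (g x - x) = 0 := fun x => by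
      rw [map_smul, LinearMap.smul_apply, anti hφ (g x - x) e, map_sub, LinearMap.sub_apply, pair_line (hX hg) hs.1,
        sub_self, neg_zero, smul_zero]
    rw [h1, h1, mul_zero]
  push Not at hue
  have hlin := fun S hS => isMul_Mlong hφ hN hX hr hp he' hu hue hne (S' := S) hS
  obtain ⟨A, B, hA, hB, hadj, hmem⟩ := short_comm hφ hX he' hg hs hu (linIso_mem hN (rho_linIso hφ hu))
  obtain ⟨μ, hμ⟩ : ∃ μ, ∀ x, B x + A x = μ * x := ⟨(B + A) 1, fun x => hlin _ hmem x⟩
  -- scale the vector
  have hscale : ∀ c : E, ∃ κ : E, ∀ x, c * A x - A (c * x) = κ * x := fun c => by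
    have hcu : φ (c • u) e = 0 := by rw [map_smul, LinearMap.smul_apply, hu, smul_zero]
    obtain ⟨A', B', hA', hB', -, hmem'⟩ := short_comm hφ hX he' hg hs hcu (linIso_mem hN (rho_linIso hφ hcu))
    refine ⟨(B' + A') 1 - μ * c, fun x => ?_⟩
    have h := hlin _ hmem' x
    rw [LinearMap.add_apply, hA', map_smul, LinearMap.smul_apply, ← hA, hB', smul_smul, ← hB, smul_eq_mul,
      mul_comm x c] at h
    rw [LinearMap.add_apply] at h ⊢
    have h2 := hμ (c * x)
    linear_combination h - h2
  obtain ⟨κ, hκ⟩ := hscale a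
  have hpow : ∀ n : ℕ, ∀ x, A (a ^ n * x) = a ^ n * A x - n * (a ^ (n - 1) * (κ * x)) := by
    intro n
    induction n with
    | zero => intro x; simp
    | succ n ih =>
      intro x
      rw [pow_succ, mul_assoc, ih, Nat.cast_succ]
      have h := hκ x
      rw [show A (a * x) = a * A x - κ * x by linear_combination -h, Nat.add_sub_cancel]
      rcases n with _ | n
      · simp
      · rw [Nat.add_sub_cancel]; ring
  have hκ0 : κ = 0 := by
    letI := Fintype.ofFinite E
    have h := hpow (Fintype.card E) 1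
    have h0 : ((Fintype.card E : ℕ) : E) = 0 := FiniteField.cast_card_eq_zero E
    rw [FiniteField.pow_card, h0, zero_mul, sub_zero, mul_one] at h
    have h' := hκ 1
    rw [mul_one, mul_one, h, sub_self] at h'
    exact h'.symm
  rw [← hA]
  have h := hκ 1
  rw [hκ0, zero_mul, sub_eq_zero, mul_one] at h
  rw [← h, hA, one_smul]

end Cfsg.Agent.Classical.FieldExt.Symp
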