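/-
The normaliser of the unipotent core at a point, and the bound it gives for `p`-subgroups.
-/
import Cfsg.Agent.Lib.Classical.FieldExt.Symp.Short
import Cfsg.Agent.Lib.Classical.FieldExt.Basic

set_option autoImplicit false
set_option linter.style.haveILetI false
set_option linter.unusedSectionVars false

namespace Cfsg.Agent.Classical.FieldExt.Symp

open Cfsg.Agent.Classical.FieldExt

variable {F E V : Type*} [Field F] [Field E] [Algebra F E] [Finite E] [AddCommGroup V] [Module F V] [Module E V]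
  [IsScalarTower F E V] [Finite V] {φ : V →ₗ[E] V →ₗ[E] E} {X : Subgroup (V ≃ₗ[F] V)} {r : ℕ} {e e' : V}

/-- The trace. -/
local notation "tr" => Algebra.trace F E

/-- The standing situation at a point. -/
structure Ctx (φ : V →ₗ[E] V →ₗ[E] E) (X : Subgroup (V ≃ₗ[F] V)) (r : ℕ) (e e' : V) : Prop where
  symp : IsSymp φ
  normal : ∀ g : V ≃ₗ[F] V, SemiV E g → g ∈ Isom F φ → g ∈ X
  le_isom : X ≤ Isom F φ
  deg : Module.finrank F E = r
  prime : r.Prime
  dual : φ e' e = 1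
  proper : ∃ a : F, a • (Algebra.linearMap F E).comp (Algebra.trace F E) ∉ Mlong symp X e

/-- Fixing the line and linear on its orthogonal modulo it. -/
def InPgrp (φ : V →ₗ[E] V →ₗ[E] E) (X : Subgroup (V ≃ₗ[F] V)) (e : V) (g : V ≃ₗ[F] V) : Prop :=
  g ∈ X ∧ (∀ c : E, g (c • e) = c • e) ∧
    ∀ (c : E) (v : V), φ v e = 0 → ∃ k : E, g (c • v) = c • g v + k • e

variable (φ) in
/-- Action on the line. -/
def Dl (e e' : V) (g : V ≃ₗ[F] V) : E →ₗ[F] E :=
  ((φ e').restrictScalars F).comp (g.toLinearMap.comp ((LinearMap.toSpanSingleton E V e).restrictScalars F))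

variable (φ) in
/-- Action on the quotient by the orthogonal of the line. -/
def Dp (e e' : V) (g : V ≃ₗ[F] V) : E →ₗ[F] E :=
  ((φ.flip e).restrictScalars F).comp (g.toLinearMap.comp ((LinearMap.toSpanSingleton E V e').restrictScalars F))

theorem Dl_apply (g : V ≃ₗ[F] V) (a : E) : Dl φ e e' g a = φ e' (g (a • e)) := rfl

theorem Dp_apply (g : V ≃ₗ[F] V) (a : E) : Dp φ e e' g a = φ (g (a • e')) e := rfl

/-- A unipotent core at a point. -/
structure Core (p : ℕ) (φ : V →ₗ[E] V →ₗ[E] E) (X : Subgroup (V ≃ₗ[F] V)) (e : V) (U : Subgroup (V ≃ₗ[F] V)) :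
    Prop where
  le : ∀ u ∈ U, InPgrp φ X e u
  pgrp : IsPGroup p U
  short : ∀ g ∈ X, IsShort φ e g → g ∈ U
  closed : ∀ g, InPgrp φ X e g → (∀ u ∈ U, g * u * g⁻¹ ∈ U) → ∀ k : ℕ, g ^ (p ^ k) = 1 → g ∈ U

/-- The elements of `X` normalising `U`. -/
def NU (X U : Subgroup (V ≃ₗ[F] V)) : Subgroup (V ≃ₗ[F] V) :=
  subgroupOfFinite {g | g ∈ X ∧ ∀ u ∈ U, g * u * g⁻¹ ∈ U}
    ⟨one_mem X, fun u hu => by simpa using hu⟩
    (fun a ha b hb => ⟨mul_mem ha.1 hb.1, fun u hu => by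
      have h := ha.2 _ (hb.2 u hu)
      rwa [show a * (b * u * b⁻¹) * a⁻¹ = a * b * u * (a * b)⁻¹ by group] at h⟩)

theorem conj_inv_mem {U : Subgroup (V ≃ₗ[F] V)} {g u : V ≃ₗ[F] V} (hg : g ∈ NU X U) (hu : u ∈ U) :
    g⁻¹ * u * g ∈ U := by
  have h := (inv_mem hg : g⁻¹ ∈ NU X U).2 u hu
  rwa [inv_inv] at h

/-- Compatibility with a Galois element. -/
def HasTau (φ : V →ₗ[E] V →ₗ[E] E) (e e' : V) (g : V ≃ₗ[F] V) (τ : E ≃ₐ[F] E) : Prop :=
  ∀ c x : E, Dl φ e e' g (c * x) = τ c * Dl φ e e' g x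

namespace Ctx

variable (hC : Ctx φ X r e e')

include hC

theorem e_ne : e ≠ 0 := fun h => one_ne_zero (α := E) (by rw [← hC.dual, h, map_zero])

theorem short_pow (p : ℕ) [Fact p.Prime] [CharP F p] {s : V ≃ₗ[F] V} (hs : s ∈ X) (hsh : IsShort φ e s) :
    s ^ (p ^ 2) = 1 := by
  haveI : Nontrivial V := ⟨⟨e, 0, hC.e_ne⟩⟩
  haveI : CharP (Module.End F V) p := charP_of_injective_algebraMap (algebraMap F (Module.End F V)).injective p
  let N : Module.End F V := s.toLinearMap - 1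
  have hN : ∀ x, N x = s x - x := fun x => rfl
  have hL : ∀ c : E, N (c • e) = 0 := fun c => by rw [hN, hsh.1, sub_self]
  have h3 : N ^ 3 = 0 := LinearMap.ext fun x => by
    have h1 : φ (N x) e = 0 := by
      rw [hN, map_sub, LinearMap.sub_apply, pair_line (hC.le_isom hs) hsh.1, sub_self]
    obtain ⟨k, hk⟩ := hsh.2 (N x) h1
    have h2 : N (N x) = k • e := by rw [hN (N x), hk, add_sub_cancel_left]
    rw [pow_succ, pow_two, Module.End.mul_apply, Module.End.mul_apply, h2, hL]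
    rfl
  have hp2 : 3 ≤ p ^ 2 := by have := (Fact.out : p.Prime).two_le; nlinarith
  have hpow : ∀ (n : ℕ) (x : V), (s ^ n) x = ((s.toLinearMap : Module.End F V) ^ n) x := by
    intro n
    induction n with
    | zero => intro x; rfl
    | succ n ih => intro x; rw [pow_succ, pow_succ, LinearEquiv.mul_apply, Module.End.mul_apply, ih]; rfl
  have e1 : (s.toLinearMap : Module.End F V) = N + 1 := (sub_add_cancel _ _).symm
  refine LinearEquiv.ext fun x => ?_
  rw [hpow, e1, add_pow_char_pow_of_commute _ _ (Commute.one_right N), one_pow,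
    pow_eq_zero_of_le hp2 h3, zero_add]
  rfl

theorem exists_core (p : ℕ) [Fact p.Prime] [CharP F p] : ∃ U, Core p φ X e U := by
  classical
  let Pg : Subgroup (V ≃ₗ[F] V) := subgroupOfFinite {g | InPgrp φ X e g}
    ⟨one_mem X, fun c => rfl, fun c v _ => ⟨0, by rw [zero_smul, add_zero]; rfl⟩⟩
    (fun a ha b hb => ⟨mul_mem ha.1 hb.1, fun c => by rw [LinearEquiv.mul_apply, hb.2.1, ha.2.1], fun c v hv => by
      obtain ⟨k, hk⟩ := hb.2.2 c v hv
      obtain ⟨k', hk'⟩ := ha.2.2 c (b v) (by rw [pair_line (hC.le_isom hb.1) hb.2.1, hv])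
      exact ⟨k' + k, by rw [LinearEquiv.mul_apply, LinearEquiv.mul_apply, hk, map_add, hk', ha.2.1, add_smul,
        add_assoc]⟩⟩)
  let H : Subgroup (V ≃ₗ[F] V) := subgroupOfFinite {g | g ∈ X ∧ IsShort φ e g}
    ⟨one_mem X, fun c => rfl, fun v _ => ⟨0, by rw [zero_smul, add_zero]; rfl⟩⟩
    (fun a ha b hb => ⟨mul_mem ha.1 hb.1, fun c => by rw [LinearEquiv.mul_apply, hb.2.1, ha.2.1], fun v hv => by
      obtain ⟨k, hk⟩ := hb.2.2 v hv
      obtain ⟨k', hk'⟩ := ha.2.2 v hv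
      exact ⟨k' + k, by rw [LinearEquiv.mul_apply, hk, map_add, hk', ha.2.1, add_smul, add_assoc]⟩⟩)
  have hH : IsPGroup p H := fun g => ⟨2, Subtype.ext (hC.short_pow p g.2.1 g.2.2)⟩
  obtain ⟨Q, hQ⟩ := (hH.comap_of_injective Pg.subtype Subtype.val_injective).exists_le_sylow
  refine ⟨(Q : Subgroup Pg).map Pg.subtype, ⟨fun u hu => ?_, Q.isPGroup'.map _, fun g hg hs => ?_, ?_⟩⟩
  · obtain ⟨y, -, rfl⟩ := hu
    exact y.2
  · have hgP : g ∈ Pg := ⟨hg, hs.1, fun c v hv => by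
      obtain ⟨k, hk⟩ := hs.2 v hv
      obtain ⟨k', hk'⟩ := hs.2 (c • v) (by rw [map_smul, LinearMap.smul_apply, hv, smul_zero])
      exact ⟨k' - c * k, by rw [hk', hk, smul_add, smul_smul, sub_smul]; abel⟩⟩
    exact ⟨⟨g, hgP⟩, hQ (show (⟨g, hgP⟩ : Pg) ∈ H.comap Pg.subtype from ⟨hg, hs⟩), rfl⟩
  · intro g hg hn k hk
    let γ : Pg := ⟨g, hg⟩
    let K : Subgroup Pg := Subgroup.zpowers γ
    have hK : IsPGroup p K := fun y => by
      obtain ⟨y, n, rfl⟩ := y
      refine ⟨k, Subtype.ext ?_⟩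
      change (γ ^ n) ^ (p ^ k) = 1
      rw [← zpow_natCast, ← zpow_mul, mul_comm, zpow_mul, zpow_natCast, show γ ^ (p ^ k) = 1 from Subtype.ext hk,
        one_zpow]
    have hle : K ≤ Subgroup.normalizer ((Q : Subgroup Pg) : Set Pg) := by
      rw [Subgroup.zpowers_le]
      refine Subgroup.mem_normalizer_fintype ?_
      intro y hy
      obtain ⟨z, hz, he⟩ := hn (y : V ≃ₗ[F] V) ⟨y, hy, rfl⟩
      have : z = γ * y * γ⁻¹ := Subtype.ext he
      exact this ▸ hz
    have hsup : IsPGroup p (K ⊔ (Q : Subgroup Pg) : Subgroup Pg) :=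
      hK.to_sup_of_normal_right' Q.isPGroup' hle
    have heq := Q.3 hsup le_sup_right
    exact ⟨γ, heq ▸ (le_sup_left : K ≤ K ⊔ (Q : Subgroup Pg)) (Subgroup.mem_zpowers γ), rfl⟩

variable {p : ℕ} {U : Subgroup (V ≃ₗ[F] V)} (hU : Core p φ X e U)

include hU

theorem tvT_mem (a : E) : tvT hC.symp e (mulE (F := F) a) ∈ U :=
  hU.short _ (linIso_mem hC.normal (tvT_linIso hC.symp e a))
    ⟨fun c => by rw [tvT_apply, map_smul, LinearMap.smul_apply, hC.symp.alt, smul_zero, map_zero, zero_smul, add_zero],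
      fun v hv => ⟨0, by rw [tvT_apply, hv, map_zero]⟩⟩

theorem rho_mem {u : V} (hu : φ u e = 0) : rho hC.symp F hu ∈ U :=
  hU.short _ (linIso_mem hC.normal (rho_linIso hC.symp hu))
    ⟨fun c => by
      rw [rho_apply, map_smul, LinearMap.smul_apply, hC.symp.alt, smul_zero, zero_smul, add_zero, LinearMap.smul_apply,
        anti hC.symp u e, hu, neg_zero, smul_zero, zero_smul, add_zero],
      fun v hv => ⟨φ v u, by rw [rho_apply, hv, zero_smul, add_zero]⟩⟩

/-- The vectors fixed by the core form the line. -/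
theorem eq_smul_of_fixed {x : V} (hT : tvT hC.symp e (mulE (F := F) 1) x = x)
    (hρ : ∀ v (hv : φ v e = 0), ∃ a : E, a ≠ 0 ∧ ∀ ha : φ (a • v) e = 0, rho hC.symp F ha x = x) :
    x = φ e' x • e := by
  have h1 : φ x e = 0 := by
    rw [tvT_apply, add_eq_left, mulE_apply, one_mul] at hT
    exact (smul_eq_zero.mp hT).resolve_right hC.e_ne
  refine eq_smul_of_perp hC.symp hC.dual fun u hu => ?_
  obtain ⟨a, ha0, ha⟩ := hρ u hu
  have h := ha (by rw [map_smul, LinearMap.smul_apply, hu, smul_zero])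
  rw [rho_apply, h1, zero_smul, add_zero, add_eq_left, map_smul, smul_eq_mul] at h
  rw [anti hC.symp x u, (mul_eq_zero.mp ((smul_eq_zero.mp h).resolve_right hC.e_ne)).resolve_left ha0, neg_zero]

theorem line {g : V ≃ₗ[F] V} (hg : g ∈ NU X U) (c : E) : g (c • e) = Dl φ e e' g c • e := by
  have hfix : ∀ u ∈ U, u (g (c • e)) = g (c • e) := fun u hu => by
    have h := (hU.le _ (conj_inv_mem hg hu)).2.1 c
    rw [LinearEquiv.mul_apply, LinearEquiv.mul_apply] at h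
    exact (g.apply_symm_apply _).symm.trans (congrArg g h)
  exact hC.eq_smul_of_fixed hU (hfix _ (hC.tvT_mem hU 1)) fun v hv =>
    ⟨1, one_ne_zero, fun ha => hfix _ (hC.rho_mem hU ha)⟩

theorem Dl_mul {g h : V ≃ₗ[F] V} (hg : g ∈ NU X U) (hh : h ∈ NU X U) (x : E) :
    Dl φ e e' (g * h) x = Dl φ e e' g (Dl φ e e' h x) := by
  conv_lhs => rw [Dl_apply, LinearEquiv.mul_apply, hC.line hU hh, hC.line hU hg, map_smul, hC.dual, smul_eq_mul,
    mul_one]

omit hU in
theorem Dl_one (x : E) : Dl φ e e' (1 : V ≃ₗ[F] V) x = x := by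
  rw [Dl_apply, LinearEquiv.coe_one, id_eq, map_smul, hC.dual, smul_eq_mul, mul_one]

theorem Dl_inv {g : V ≃ₗ[F] V} (hg : g ∈ NU X U) (x : E) : Dl φ e e' g (Dl φ e e' g⁻¹ x) = x := by
  rw [← hC.Dl_mul hU hg (inv_mem hg), mul_inv_cancel, hC.Dl_one]

theorem Dl_ne {g : V ≃ₗ[F] V} (hg : g ∈ NU X U) {x : E} (hx : x ≠ 0) : Dl φ e e' g x ≠ 0 := fun h => hx (by
  have h1 := hC.Dl_inv hU (inv_mem hg) x
  rw [inv_inv, h, map_zero] at h1
  exact h1.symm)

theorem perp {g : V ≃ₗ[F] V} (hg : g ∈ NU X U) {v : V} (hv : φ v e = 0) : φ (g v) e = 0 := by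
  haveI := finiteDimensional (F := F) (E := E)
  haveI : Finite F := Finite.of_injective _ (algebraMap F E).injective
  refine (traceForm_nondegenerate F E).2 _ fun a => ?_
  rw [Algebra.traceForm_apply, ← smul_eq_mul, ← map_smul, ← hC.Dl_inv hU hg a, ← hC.line hU hg, hC.le_isom hg.1,
    map_smul, hv, smul_zero, map_zero]

theorem pair {g : V ≃ₗ[F] V} (hg : g ∈ NU X U) (x : V) : φ (g x) e = Dp φ e e' g (φ x e) := by
  have h := hC.perp hU hg (decomp hC.symp hC.dual x)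
  rw [map_sub, map_sub, LinearMap.sub_apply, sub_eq_zero] at h
  rw [h, Dp_apply]

theorem Dp_mul {g h : V ≃ₗ[F] V} (hg : g ∈ NU X U) (hh : h ∈ NU X U) (x : E) :
    Dp φ e e' (g * h) x = Dp φ e e' g (Dp φ e e' h x) := by
  conv_lhs => rw [Dp_apply, LinearEquiv.mul_apply, hC.pair hU hg, hC.pair hU hh, map_smul, LinearMap.smul_apply,
    hC.dual, smul_eq_mul, mul_one]

theorem Dp_inv {g : V ≃ₗ[F] V} (hg : g ∈ NU X U) (x : E) : Dp φ e e' g (Dp φ e e' g⁻¹ x) = x := by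
  rw [← hC.Dp_mul hU hg (inv_mem hg), mul_inv_cancel, Dp_apply, LinearEquiv.coe_one, id_eq, map_smul,
    LinearMap.smul_apply, hC.dual, smul_eq_mul, mul_one]

theorem tr_Dp {g : V ≃ₗ[F] V} (hg : g ∈ NU X U) (a b : E) :
    tr (Dp φ e e' g a * Dl φ e e' g b) = tr (a * b) := by
  have h := hC.le_isom hg.1 (a • e') (b • e)
  rw [hC.line hU hg, map_smul (φ (g (a • e'))), map_smul (φ (a • e')), map_smul φ a e', LinearMap.smul_apply, hC.dual,
    smul_eq_mul, smul_eq_mul, smul_eq_mul, mul_one, ← Dp_apply] at h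
  rw [mul_comm a, mul_comm (Dp φ e e' g a)]
  exact h

theorem conj_long {g : V ≃ₗ[F] V} (hg : g ∈ NU X U) (S : E →ₗ[F] E) (hS : S ∈ Mlong hC.symp X e) :
    (Dl φ e e' g).comp (S.comp (Dp φ e e' g⁻¹)) ∈ Mlong hC.symp X e := by
  have h : tvT hC.symp e ((Dl φ e e' g).comp (S.comp (Dp φ e e' g⁻¹))) = g * tvT hC.symp e S * g⁻¹ := by
    refine LinearEquiv.ext fun x => ?_
    rw [LinearEquiv.mul_apply, LinearEquiv.mul_apply, tvT_apply, tvT_apply, map_add, hC.line hU hg,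
      hC.pair hU (inv_mem hg), show g (g⁻¹ x) = x from g.apply_symm_apply x]
    rfl
  rw [mem_Mlong, h]
  exact X.mul_mem (X.mul_mem hg.1 hS) (X.inv_mem hg.1)

theorem exists_tau {g : V ≃ₗ[F] V} (hg : g ∈ NU X U) : ∃ τ : E ≃ₐ[F] E, HasTau φ e e' g τ := by
  have hM := isCongr hC.symp hC.normal hC.le_isom hC.dual
  have hlin : ∀ c x, Dl φ e e' g (c * Dl φ e e' g⁻¹ x) = Dl φ e e' g (c * Dl φ e e' g⁻¹ 1) * x := by
    intro c
    refine isMul_of_lie hC.deg hC.prime hM hC.proper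
      (Z := (Dl φ e e' g).comp ((mulE c).comp (Dl φ e e' g⁻¹)))
      (Z' := (Dp φ e e' g).comp ((mulE c).comp (Dp φ e e' g⁻¹))) fun S hS => ?_
    have h0 := hC.conj_long hU (inv_mem hg) S hS
    rw [inv_inv] at h0
    obtain ⟨S₀, hS₀⟩ : ∃ S₀, S₀ = (Dl φ e e' g⁻¹).comp (S.comp (Dp φ e e' g)) := ⟨_, rfl⟩
    rw [← hS₀] at h0
    have hpol : (mulE c).comp S₀ + S₀.comp (mulE c) ∈ Mlong hC.symp X e := by
      have h := sub_mem (sub_mem (hM.congr (c + 1) S₀ h0) (hM.congr c S₀ h0)) h0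
      have e1 : (mulE c).comp S₀ + S₀.comp (mulE (F := F) c) =
          (mulE (c + 1)).comp (S₀.comp (mulE (c + 1))) - (mulE c).comp (S₀.comp (mulE c)) - S₀ :=
        LinearMap.ext fun x => by
          simp only [LinearMap.add_apply, LinearMap.sub_apply, LinearMap.comp_apply, mulE_apply, add_mul, one_mul,
            map_add, mul_add]
          ring
      rw [e1]; exact h
    have h1 := hC.conj_long hU hg _ hpol
    have e2 : ((Dl φ e e' g).comp ((mulE c).comp (Dl φ e e' g⁻¹))).comp S +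
        S.comp ((Dp φ e e' g).comp ((mulE c).comp (Dp φ e e' g⁻¹))) =
        (Dl φ e e' g).comp (((mulE c).comp S₀ + S₀.comp (mulE c)).comp (Dp φ e e' g⁻¹)) := by
      refine LinearMap.ext fun x => ?_
      simp only [hS₀, LinearMap.add_apply, LinearMap.comp_apply, map_add, hC.Dp_inv hU hg, hC.Dl_inv hU hg]
    rw [e2]; exact h1
  obtain ⟨t, ht⟩ : ∃ t : E → E, ∀ c x, Dl φ e e' g (c * x) = t c * Dl φ e e' g x := by
    refine ⟨fun c => Dl φ e e' g (c * Dl φ e e' g⁻¹ 1), fun c x => ?_⟩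
    have hgi : ∀ y, Dl φ e e' g⁻¹ (Dl φ e e' g y) = y := fun y => by
      have := hC.Dl_inv hU (inv_mem hg) y
      rwa [inv_inv] at this
    have := hlin c (Dl φ e e' g x)
    rwa [hgi] at this
  have h1 : Dl φ e e' g 1 ≠ 0 := hC.Dl_ne hU hg one_ne_zero
  have key : ∀ c, Dl φ e e' g c = t c * Dl φ e e' g 1 := fun c => by rw [← ht, mul_one]
  let τ : E →ₐ[F] E :=
    { toFun := t
      map_one' := mul_right_cancel₀ h1 (by rw [← key, one_mul])
      map_mul' := fun a b => mul_right_cancel₀ h1 (by rw [← key, ht, key b, mul_assoc])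
      map_zero' := mul_right_cancel₀ h1 (by rw [← key, map_zero, zero_mul])
      map_add' := fun a b => mul_right_cancel₀ h1 (by rw [← key, map_add, key a, key b, add_mul])
      commutes' := fun a => mul_right_cancel₀ h1 (by
        rw [← key, Algebra.algebraMap_eq_smul_one, map_smul, Algebra.smul_def, Algebra.smul_def, mul_one]) }
  exact ⟨AlgEquiv.ofBijective τ (Finite.injective_iff_bijective.mp τ.injective), ht⟩

theorem tau_Dp {g : V ≃ₗ[F] V} (hg : g ∈ NU X U) {τ : E ≃ₐ[F] E} (hτ : HasTau φ e e' g τ) (c a : E) :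
    Dp φ e e' g (c * a) = τ c * Dp φ e e' g a := by
  haveI := finiteDimensional (F := F) (E := E)
  haveI : Finite F := Finite.of_injective _ (algebraMap F E).injective
  refine sub_eq_zero.mp ((traceForm_nondegenerate F E).1 _ fun y => ?_)
  rw [Algebra.traceForm_apply, sub_mul, map_sub, sub_eq_zero, ← hC.Dl_inv hU hg y, hC.tr_Dp hU hg,
    mul_comm (τ c) (Dp φ e e' g a), mul_assoc (Dp φ e e' g a), ← hτ, hC.tr_Dp hU hg]
  congr 1; ring

/-- Modulo the line the element is semilinear on the orthogonal. -/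
theorem tau_perp {g : V ≃ₗ[F] V} (hg : g ∈ NU X U) {τ : E ≃ₐ[F] E} (hτ : HasTau φ e e' g τ) (b : E) {v : V}
    (hv : φ v e = 0) : ∃ k : E, g (b • v) = τ b • g v + k • e := by
  obtain ⟨k₀, hk₀⟩ : ∃ k₀, k₀ = Dp φ e e' g⁻¹ 1 := ⟨_, rfl⟩
  have hk0 : k₀ ≠ 0 := fun h => one_ne_zero (α := E) (by rw [← hC.Dp_inv hU hg 1, ← hk₀, h, map_zero])
  obtain ⟨v₀, hv₀⟩ : ∃ v₀, v₀ = k₀⁻¹ • v := ⟨_, rfl⟩
  have hv0e : φ v₀ e = 0 := by rw [hv₀, map_smul, LinearMap.smul_apply, hv, smul_zero]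
  obtain ⟨s, hs⟩ : ∃ s, s = g * rho hC.symp F hv0e * g⁻¹ := ⟨_, rfl⟩
  have hsX : s ∈ X := hs ▸ X.mul_mem (X.mul_mem hg.1 (hU.le _ (hC.rho_mem hU hv0e)).1) (X.inv_mem hg.1)
  have hsa : ∀ x, s x = x + g (Dp φ e e' g⁻¹ (φ x e) • v₀) + g (φ (g⁻¹ x) v₀ • e) := fun x => by
    rw [hs, LinearEquiv.mul_apply, LinearEquiv.mul_apply, rho_apply, map_add, map_add, hC.pair hU (inv_mem hg),
      show g (g⁻¹ x) = x from g.apply_symm_apply x]
  have hss : IsShort φ e s := by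
    refine ⟨fun c => ?_, fun w hw => ⟨Dl φ e e' g (φ (g⁻¹ w) v₀), ?_⟩⟩
    · have h := (hU.le _ (hg.2 _ (hC.rho_mem hU hv0e))).2.1 c
      rwa [← hs] at h
    · rw [hsa, hw, map_zero, zero_smul, map_zero, add_zero, hC.line hU hg]
  have hgv : φ (g (b • v) - τ b • g v) e = 0 := by
    rw [map_sub, LinearMap.sub_apply, hC.perp hU hg (by rw [map_smul, LinearMap.smul_apply, hv, smul_zero]),
      map_smul, LinearMap.smul_apply, hC.perp hU hg hv, smul_zero, sub_zero]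
  refine ⟨φ e' (g (b • v) - τ b • g v), ?_⟩
  rw [← eq_smul_of_perp hC.symp hC.dual fun u hu => ?_, add_sub_cancel]
  have hue : ∀ z : E, φ u (g (z • e)) = 0 := fun z => by rw [hC.line hU hg, map_smul, hu, smul_zero]
  have h := short_linear hC.symp hC.normal hC.le_isom hC.deg hC.prime hC.dual hC.proper hsX hss (τ b) hu
  have hgi : ∀ y, Dp φ e e' g⁻¹ (Dp φ e e' g y) = y := fun y => by
    have := hC.Dp_inv hU (inv_mem hg) y
    rwa [inv_inv] at this
  have hb : Dp φ e e' g⁻¹ (τ b) = b * k₀ := by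
    have e1 : τ b = Dp φ e e' g (b * k₀) := by
      rw [hC.tau_Dp hU hg hτ, hk₀, hC.Dp_inv hU hg, mul_one]
    rw [e1, hgi]
  rw [hsa, hsa, map_smul φ (τ b) e', LinearMap.smul_apply, hC.dual, smul_eq_mul, mul_one, hb, ← hk₀] at h
  simp only [map_sub, map_add, hue, add_zero, add_sub_cancel_left] at h
  rw [hv₀, smul_smul, smul_smul, mul_assoc, mul_inv_cancel₀ hk0, mul_one, one_smul] at h
  rw [map_sub, map_smul (φ u), h, smul_eq_mul, sub_self]

theorem hasTau_mul {g h : V ≃ₗ[F] V} (hg : g ∈ NU X U) (hh : h ∈ NU X U) {τ τ' : E ≃ₐ[F] E}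
    (a : HasTau φ e e' g τ) (b : HasTau φ e e' h τ') : HasTau φ e e' (g * h) (τ * τ') := fun c x => by
  rw [hC.Dl_mul hU hg hh, hC.Dl_mul hU hg hh, b, a, AlgEquiv.mul_apply]

theorem hasTau_unique {g : V ≃ₗ[F] V} (hg : g ∈ NU X U) {τ τ' : E ≃ₐ[F] E}
    (a : HasTau φ e e' g τ) (b : HasTau φ e e' g τ') : τ = τ' :=
  AlgEquiv.ext fun c => mul_right_cancel₀ (hC.Dl_ne hU hg one_ne_zero) ((a c 1).symm.trans (b c 1))

theorem tau_eq_of_fix {g : V ≃ₗ[F] V} (hg : g ∈ NU X U) {τ : E ≃ₐ[F] E} (a : HasTau φ e e' g τ) {x c : E}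
    (hx : x ≠ 0) (h1 : g (x • e) = x • e) (hc : g ((c * x) • e) = (c * x) • e) : τ c = c := by
  have hd : ∀ y : E, g (y • e) = y • e → Dl φ e e' g y = y := fun y hy => by
    rw [Dl_apply, hy, map_smul, hC.dual, smul_eq_mul, mul_one]
  have h := a c x
  rw [hd _ hc, hd _ h1] at h
  exact (mul_right_cancel₀ hx h).symm

variable [Fact p.Prime] [CharP F p]

theorem mem_of_tau_one {g : V ≃ₗ[F] V} (hg : g ∈ NU X U) (a : HasTau φ e e' g 1) {k : ℕ} (hk : g ^ (p ^ k) = 1) :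
    g ∈ U := by
  haveI : CharP E p := charE (F := F) p
  have hpow : ∀ (n : ℕ) (x : E), Dl φ e e' (g ^ n) x = Dl φ e e' g 1 ^ n * x := by
    intro n
    induction n with
    | zero => intro x; rw [pow_zero, hC.Dl_one, pow_zero, one_mul]
    | succ n ih =>
      intro x
      have hx : Dl φ e e' g x = x * Dl φ e e' g 1 := by
        have h := a x 1
        rwa [mul_one, AlgEquiv.one_apply] at h
      rw [pow_succ, hC.Dl_mul hU (pow_mem hg n) hg, ih, pow_succ, hx]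
      ring
  have hone : Dl φ e e' g 1 = 1 := by
    have h := hpow (p ^ k) 1
    rw [hk, hC.Dl_one, mul_one] at h
    have h3 : (Dl φ e e' g 1 - 1) ^ (p ^ k) = 0 := by rw [sub_pow_char_pow, one_pow, ← h, sub_self]
    exact sub_eq_zero.mp (pow_eq_zero_iff'.mp h3).1
  have hline : ∀ c : E, g (c • e) = c • e := fun c => by
    have h := a c 1
    rw [mul_one, AlgEquiv.one_apply, hone, mul_one] at h
    rw [hC.line hU hg, h]
  exact hU.closed g ⟨hg.1, hline, fun c v hv => hC.tau_perp hU hg a c hv⟩ hg.2 k hk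

theorem mem_of_fix_line {g : V ≃ₗ[F] V} (hg : g ∈ NU X U) {k : ℕ} (hk : g ^ (p ^ k) = 1)
    (hfix : ∀ c : E, g (c • e) = c • e) : g ∈ U := by
  obtain ⟨τ, hτ⟩ := hC.exists_tau hU hg
  have h1 : τ = 1 := AlgEquiv.ext fun c => hC.tau_eq_of_fix hU hg hτ one_ne_zero (hfix 1) (hfix _)
  exact hC.mem_of_tau_one hU hg (h1 ▸ hτ) hk

omit hC hU in
theorem exists_normalizing {P U : Subgroup (V ≃ₗ[F] V)} (hP : IsPGroup p P) (hUP : U ≤ P) (hne : ¬ P ≤ U) :
    ∃ g ∈ P, g ∉ U ∧ ∀ u ∈ U, g * u * g⁻¹ ∈ U := by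
  haveI : Group.IsNilpotent P := hP.isNilpotent
  have hlt : U.subgroupOf P < ⊤ := lt_top_iff_ne_top.mpr fun e => hne (Subgroup.subgroupOf_eq_top.mp e)
  obtain ⟨⟨g, hgP⟩, hg, hgU⟩ := SetLike.exists_of_lt (Group.normalizerCondition_of_isNilpotent (U.subgroupOf P) hlt)
  exact ⟨g, hgP, hgU, fun u hu => (Subgroup.mem_normalizer_iff.mp hg ⟨u, hUP hu⟩).mp hu⟩

theorem pGroup_bound {P : Subgroup (V ≃ₗ[F] V)} (hP : IsPGroup p P) (hPX : P ≤ X) (hUP : U ≤ P) :
    (r ≠ p → P ≤ U) ∧ Nat.card P ≤ p * Nat.card U := by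
  classical
  have hpk : ∀ g ∈ P, ∃ k : ℕ, g ^ (p ^ k) = 1 := fun g hg => by
    obtain ⟨k, hk⟩ := hP ⟨g, hg⟩
    exact ⟨k, congrArg Subtype.val hk⟩
  have hgal : Nat.card (E ≃ₐ[F] E) = r := gal_card hC.deg
  have hfirst : r ≠ p → P ≤ U := by
    intro hrp
    by_contra hne
    obtain ⟨g, hgP, hgU, hgn⟩ := exists_normalizing hP hUP hne
    have hg : g ∈ NU X U := ⟨hPX hgP, hgn⟩
    obtain ⟨τ, hτ⟩ := hC.exists_tau hU hg
    obtain ⟨k, hk⟩ := hpk g hgP
    have hpow : ∀ n : ℕ, HasTau φ e e' (g ^ n) (τ ^ n) := by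
      intro n
      induction n with
      | zero => intro c x; rw [pow_zero, pow_zero, hC.Dl_one, hC.Dl_one, AlgEquiv.one_apply]
      | succ n ih => rw [pow_succ, pow_succ]; exact hC.hasTau_mul hU (pow_mem hg n) hg ih hτ
    have h1 : τ ^ (p ^ k) = 1 := by
      refine hC.hasTau_unique hU (pow_mem hg (p ^ k)) (hpow _) fun c x => ?_
      rw [hk, hC.Dl_one, hC.Dl_one, AlgEquiv.one_apply]
    have h2 : τ ^ r = 1 := by rw [← hgal]; exact pow_card_eq_one'
    have hcop : Nat.Coprime (p ^ k) r :=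
      Nat.Coprime.pow_left k ((Nat.coprime_primes Fact.out hC.prime).mpr (Ne.symm hrp))
    have h3 : τ = 1 := by
      rw [← orderOf_eq_one_iff]
      exact Nat.eq_one_of_dvd_coprimes hcop (orderOf_dvd_of_pow_eq_one h1) (orderOf_dvd_of_pow_eq_one h2)
    exact hgU (hC.mem_of_tau_one hU hg (h3 ▸ hτ) hk)
  refine ⟨hfirst, ?_⟩
  have hUpos : 0 < Nat.card U := Nat.card_pos
  by_cases hrp : r ≠ p
  · exact (Subgroup.card_le_of_le (hfirst hrp)).trans (Nat.le_mul_of_pos_left _ (Fact.out : p.Prime).pos)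
  push Not at hrp
  let N2 : Subgroup (V ≃ₗ[F] V) := P ⊓ NU X U
  have hUN : U ≤ N2 := fun u hu => ⟨hUP hu, hPX (hUP hu), fun v hv => U.mul_mem (U.mul_mem hu hv) (U.inv_mem hu)⟩
  choose tf htf using fun a : N2 => hC.exists_tau hU a.2.2
  have tf_mul : ∀ a b, tf (a * b) = tf a * tf b := fun a b =>
    hC.hasTau_unique hU (a * b).2.2 (htf (a * b)) (hC.hasTau_mul hU a.2.2 b.2.2 (htf a) (htf b))
  let χ : N2 →* (E ≃ₐ[F] E) := MonoidHom.mk' tf tf_mul
  have hker : ∀ a : N2, χ a = 1 → (a : V ≃ₗ[F] V) ∈ U := fun a ha => by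
    obtain ⟨k, hk⟩ := hpk a a.2.1
    exact hC.mem_of_tau_one hU a.2.2 ((show tf a = 1 from ha) ▸ htf a) hk
  haveI : Finite (E ≃ₐ[F] E) := Finite.of_injective (fun g : E ≃ₐ[F] E => (g : E → E)) DFunLike.coe_injective
  have hN2 : Nat.card N2 ≤ p * Nat.card U := by
    rw [← Subgroup.card_mul_index χ.ker, mul_comm]
    refine Nat.mul_le_mul ?_ ?_
    · rw [Subgroup.index_ker]
      exact (Subgroup.card_le_card_group _).trans (by rw [hgal, hrp])
    · refine Nat.card_le_card_of_injective (fun a => (⟨(a : N2), hker a a.2⟩ : U)) fun a b e => ?_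
      exact Subtype.ext (Subtype.ext (congrArg (fun z : U => (z : V ≃ₗ[F] V)) e))
  suffices hle : P ≤ N2 from (Subgroup.card_le_of_le hle).trans hN2
  by_contra hne
  obtain ⟨g, hgP, hgN, hgn⟩ := exists_normalizing hP (inf_le_left : N2 ≤ P) hne
  refine hgN ⟨hgP, hPX hgP, fun u hu => ?_⟩
  have hcardE : p < Nat.card E := by
    haveI := finiteDimensional (F := F) (E := E)
    haveI : Finite F := Finite.of_injective _ (algebraMap F E).injective
    rw [show Nat.card E = Nat.card F ^ r from hC.deg ▸ Module.natCard_eq_pow_finrank, ← hrp]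
    exact Nat.lt_pow_self Finite.one_lt_card
  have hgN2 : ∀ v ∈ N2, g⁻¹ * v * g ∈ N2 := fun v hv => by
    have := conj_inv_mem (X := ⊤) (show g ∈ NU ⊤ N2 from ⟨trivial, hgn⟩) hv
    exact this
  have hfam : ∀ (t : E → V ≃ₗ[F] V), (∀ a, t a ∈ U) → (∀ a b, t (a - b) = t a * (t b)⁻¹) →
      ∃ a : E, a ≠ 0 ∧ ∀ c : E, t a (g (c • e)) = g (c • e) := by
    intro t ht htsub
    let f : E → (E ≃ₐ[F] E) := fun a => χ ⟨g⁻¹ * t a * g, hgN2 _ (hUN (ht a))⟩
    obtain ⟨a, b, hab, he⟩ : ∃ a b, a ≠ b ∧ f a = f b := by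
      by_contra hcon
      push Not at hcon
      have := Nat.card_le_card_of_injective f fun a b e => by_contra fun h => hcon a b h e
      rw [hgal, hrp] at this
      omega
    let s : N2 := ⟨g⁻¹ * t a * g, hgN2 _ (hUN (ht a))⟩ * ⟨g⁻¹ * t b * g, hgN2 _ (hUN (ht b))⟩⁻¹
    have hs : χ s = 1 := by
      simp only [s, map_mul, map_inv]
      exact mul_inv_eq_one.mpr he
    have hs' : ((s : N2) : V ≃ₗ[F] V) = g⁻¹ * t (a - b) * g := by
      simp only [s, Subgroup.coe_mul, Subgroup.coe_inv, htsub]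
      group
    refine ⟨a - b, sub_ne_zero.mpr hab, fun c => ?_⟩
    have h := (hU.le _ (hker s hs)).2.1 c
    rw [hs', LinearEquiv.mul_apply, LinearEquiv.mul_apply] at h
    exact (g.apply_symm_apply _).symm.trans (congrArg g h)
  have hline : ∀ c : E, g (c • e) = φ e' (g (c • e)) • e := fun c => by
    obtain ⟨a, ha, hfix⟩ := hfam (fun a => tvT hC.symp e (mulE a)) (hC.tvT_mem hU) (fun a b => by
      rw [tvT_inv, tvT_mul, ← sub_eq_add_neg]
      exact congrArg _ (LinearMap.ext fun x => by simp [mulE_apply, sub_mul]))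
    have hperp : φ (g (c • e)) e = 0 := by
      have h := hfix c
      rw [tvT_apply, add_eq_left, mulE_apply] at h
      exact (mul_eq_zero.mp ((smul_eq_zero.mp h).resolve_right hC.e_ne)).resolve_left ha
    refine hC.eq_smul_of_fixed hU (by rw [tvT_apply, hperp, map_zero, zero_smul, add_zero]) fun v hv => ?_
    have hav : ∀ a : E, φ (a • v) e = 0 := fun a => by rw [map_smul, LinearMap.smul_apply, hv, smul_zero]
    obtain ⟨b, hb, hfix'⟩ := hfam (fun a => rho hC.symp F (hav a)) (fun a => hC.rho_mem hU _) (fun a b => by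
      rw [eq_mul_inv_iff_mul_eq, rho_mul hC.symp (hav (a - b)) (hav b) (by rw [← add_smul, sub_add_cancel]; exact hav a)
        (by rw [map_smul, map_smul φ, LinearMap.smul_apply, hC.symp.alt, smul_zero, smul_zero])]
      exact LinearEquiv.ext fun x => by rw [rho_apply, rho_apply, ← add_smul, sub_add_cancel])
    exact ⟨b, hb, fun _ => hfix' c⟩
  obtain ⟨k, hk⟩ := hpk (g * u * g⁻¹) (mul_mem (mul_mem hgP (hUP hu)) (inv_mem hgP))
  refine hC.mem_of_fix_line hU (hgn u (hUN hu)).2 hk fun c => ?_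
  have hsurj : Function.Surjective fun c : E => φ e' (g (c • e)) :=
    Finite.surjective_of_injective fun a b hab => by
      have h : g (a • e) = g (b • e) := by rw [hline, hline b]; exact congrArg (· • e) hab
      exact smul_left_injective E hC.e_ne (g.injective h)
  obtain ⟨c', hc' : φ e' (g (c' • e)) = c⟩ := hsurj c
  have he : g (c' • e) = c • e := by rw [hline, hc']
  have hinv : g⁻¹ (c • e) = c' • e := by rw [← he]; exact g.symm_apply_apply _
  rw [LinearEquiv.mul_apply, LinearEquiv.mul_apply, hinv, (hU.le u hu).2.1, he]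

end Ctx

end Cfsg.Agent.Classical.FieldExt.Symp
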