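/-
Overgroups of a symplectic group over an extension field of prime degree (elementary proof).
-/
import Cfsg.Agent.Lib.Classical.FieldExt.Symp.Norm

set_option autoImplicit false
set_option linter.style.haveILetI false
set_option linter.unusedSectionVars false

namespace Cfsg.Agent.Classical.FieldExt.Symp

open Cfsg.Agent.Classical.FieldExt

variable {F E V : Type*} [Field F] [Field E] [Algebra F E] [Finite E] [AddCommGroup V] [Module F V] [Module E V]
  [IsScalarTower F E V] [Finite V] {φ : V →ₗ[E] V →ₗ[E] E} {X : Subgroup (V ≃ₗ[F] V)} {r : ℕ} {e e' : V}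

/-- The trace. -/
local notation "tr" => Algebra.trace F E

theorem semi_of_lines (hφ : IsSymp φ) {g : V ≃ₗ[F] V} (h : ∀ (c : E) (v : V), ∃ d : E, g (c • v) = d • g v) :
    SemiV E g := by
  classical
  by_cases hv0 : ∀ v : V, v = 0
  · exact ⟨id, fun c v => by rw [hv0 (g (c • v)), hv0 (id c • g v)]⟩
  push Not at hv0
  obtain ⟨v₀, hv₀⟩ := hv0
  choose τ hτ using h
  have hinj : ∀ v, v ≠ 0 → Function.Surjective fun c => τ c v := fun v hv =>
    Finite.surjective_of_injective fun c c' e => by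
      have h' : g (c • v) = g (c' • v) := by
        rw [hτ, hτ]
        exact congrArg (· • g v) e
      exact smul_left_injective E hv (g.injective h')
  have hind : ∀ v w, v ≠ 0 → (∀ a : E, w ≠ a • v) → ∀ d : E, g w ≠ d • g v := fun v w hv hw d e => by
    obtain ⟨c, hc : τ c v = d⟩ := hinj v hv d
    rw [← hc, ← hτ] at e
    exact hw c (g.injective e)
  have hone : ∀ v w, v ≠ 0 → (∀ a : E, w ≠ a • v) → ∀ c, τ c w = τ c v := fun v w hv hw c => by
    have e : g (c • (v + w)) = τ c v • g v + τ c w • g w := by rw [smul_add, map_add, hτ, hτ]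
    rw [hτ, map_add, smul_add] at e
    have e' : (τ c (v + w) - τ c w) • g w = (τ c v - τ c (v + w)) • g v := by
      rw [sub_smul, sub_smul, sub_eq_sub_iff_add_eq_add, add_comm, e]
    have h1 : τ c (v + w) = τ c w := by
      by_contra hne
      refine hind v w hv hw ((τ c (v + w) - τ c w)⁻¹ * (τ c v - τ c (v + w))) ?_
      rw [mul_smul, ← e', smul_smul, inv_mul_cancel₀ (sub_ne_zero.mpr hne), one_smul]
    rw [h1, sub_self, zero_smul] at e'
    rcases smul_eq_zero.mp e'.symm with h2 | h2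
    · exact (sub_eq_zero.mp h2).symm
    · exact absurd (g.map_eq_zero_iff.mp h2) hv
  refine ⟨fun c => τ c v₀, fun c v => ?_⟩
  by_cases hv : v = 0
  · simp [hv]
  rw [hτ]
  congr 1
  by_cases hw : ∀ a : E, v ≠ a • v₀
  · exact hone _ _ hv₀ hw c
  push Not at hw
  obtain ⟨a, ha⟩ := hw
  obtain ⟨u, hu⟩ := exists_dual hφ hv₀
  have h1 : ∀ b : E, u ≠ b • v₀ := fun b hb => one_ne_zero (α := E) (by
    rw [← hu, hb, map_smul, LinearMap.smul_apply, hφ.alt, smul_zero])
  have h2 : ∀ b : E, u ≠ b • v := fun b hb => h1 (b * a) (by rw [mul_smul, ← ha]; exact hb)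
  rw [← hone v u hv h2, hone v₀ u hv₀ h1]

/-- The elements of `X` fixing two points of a line. -/
def fix2 (X : Subgroup (V ≃ₗ[F] V)) (e : V) (c : E) : Subgroup (V ≃ₗ[F] V) :=
  X ⊓ MulAction.stabilizer (V ≃ₗ[F] V) e ⊓ MulAction.stabilizer (V ≃ₗ[F] V) (c • e)

theorem mem_fix2 {c : E} {g : V ≃ₗ[F] V} : g ∈ fix2 X e c ↔ (g ∈ X ∧ g e = e) ∧ g (c • e) = c • e := Iff.rfl

namespace Ctx

variable (hC : Ctx φ X r e e')

include hC

/-- A point moved off its line can be translated along it. -/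
theorem translate {γ : V ≃ₗ[F] V} (hγ : γ ∈ X) (hγe : γ e = e) {c : E} (hout : ∀ d : E, γ (c • e) ≠ d • e) (a : F) :
    ∃ γ' ∈ X, γ' e = e ∧ γ' (c • e) = c • e + a • e := by
  obtain ⟨T, hTX, hTe, hTw⟩ : ∃ T ∈ X, T e = e ∧ T (γ (c • e)) = γ (c • e) + a • e := by
    obtain ⟨w, hw⟩ : ∃ w, w = γ (c • e) := ⟨_, rfl⟩
    rw [← hw] at hout ⊢
    by_cases hwe : φ w e = 0
    · obtain ⟨u, hu, huw⟩ : ∃ u, φ u e = 0 ∧ φ u w ≠ 0 := by
        by_contra hcon
        push Not at hcon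
        exact hout _ (eq_smul_of_perp hC.symp hC.dual fun u hu => hcon u hu)
      obtain ⟨b, hb⟩ : ∃ b, b = algebraMap F E a * (φ w u)⁻¹ := ⟨_, rfl⟩
      have hwu : φ w u ≠ 0 := by rw [anti hC.symp u w]; exact neg_ne_zero.mpr huw
      have hbu : φ (b • u) e = 0 := by rw [map_smul, LinearMap.smul_apply, hu, smul_zero]
      refine ⟨rho hC.symp F hbu, linIso_mem hC.normal (rho_linIso hC.symp hbu), ?_, ?_⟩
      · rw [rho_apply, hC.symp.alt, zero_smul, add_zero, anti hC.symp (b • u) e, hbu, neg_zero, zero_smul, add_zero]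
      · rw [rho_apply, hwe, zero_smul, add_zero, map_smul, smul_eq_mul, hb, mul_assoc, inv_mul_cancel₀ hwu, mul_one,
          IsScalarTower.algebraMap_smul]
    · refine ⟨tvT hC.symp e (mulE (algebraMap F E a * (φ w e)⁻¹)), linIso_mem hC.normal (tvT_linIso hC.symp _ _),
        ?_, ?_⟩
      · rw [tvT_apply, hC.symp.alt, map_zero, zero_smul, add_zero]
      · rw [tvT_apply, mulE_apply, mul_assoc, inv_mul_cancel₀ hwe, mul_one, IsScalarTower.algebraMap_smul]
  have hγi : γ⁻¹ e = e := by conv_lhs => rw [← hγe]; exact γ.symm_apply_apply e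
  refine ⟨γ⁻¹ * T * γ, X.mul_mem (X.mul_mem (X.inv_mem hγ) hTX) hγ, ?_, ?_⟩
  · rw [LinearEquiv.mul_apply, LinearEquiv.mul_apply, hγe, hTe, hγi]
  · rw [LinearEquiv.mul_apply, LinearEquiv.mul_apply, hTw, map_add, map_smul γ⁻¹ a e, hγi,
      show γ⁻¹ (γ (c • e)) = c • e from γ.symm_apply_apply _]

/-- A moved point has an orbit of length divisible by `q`. -/
theorem orbit_dvd {γ : V ≃ₗ[F] V} (hγ : γ ∈ X) (hγe : γ e = e) {c : E} (hout : ∀ d : E, γ (c • e) ≠ d • e) :
    Nat.card F * Nat.card (fix2 X e c) ∣ Nat.card X := by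
  classical
  let Γ : Subgroup (V ≃ₗ[F] V) := X ⊓ MulAction.stabilizer (V ≃ₗ[F] V) e
  let O : Set V := MulAction.orbit Γ (c • e)
  have htr : ∀ y ∈ O, ∀ a : F, y + a • e ∈ O := by
    rintro y ⟨g, rfl⟩ a
    obtain ⟨γ', hγ', hγ'e, hγ'c⟩ := hC.translate hγ hγe hout a
    refine ⟨g * ⟨γ', hγ', hγ'e⟩, ?_⟩
    change (g : V ≃ₗ[F] V) (γ' (c • e)) = (g : V ≃ₗ[F] V) (c • e) + a • e
    rw [hγ'c, map_add, map_smul (g : V ≃ₗ[F] V) a e, show (g : V ≃ₗ[F] V) e = e from g.2.2]
  have hdiv : Nat.card F ∣ Nat.card O := by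
    let L : AddSubgroup V := (Submodule.span F {e}).toAddSubgroup
    have hpre : O = QuotientAddGroup.mk ⁻¹' (QuotientAddGroup.mk (s := L) '' O) := by
      ext y
      refine ⟨fun hy => ⟨y, hy, rfl⟩, fun ⟨z, hz, h⟩ => ?_⟩
      obtain ⟨a, ha⟩ := Submodule.mem_span_singleton.mp (QuotientAddGroup.eq.mp h)
      have := htr z hz a
      rwa [ha, add_neg_cancel_left] at this
    rw [hpre, Nat.card_congr (QuotientAddGroup.preimageMkEquivAddSubgroupProdSet L _), Nat.card_prod]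
    refine Dvd.dvd.mul_right ?_ _
    have h : Nat.card (Submodule.span F {e}) = Nat.card F :=
      (Nat.card_congr (LinearEquiv.toSpanNonzeroSingleton F _ e hC.e_ne).toEquiv).symm
    exact h.symm.dvd
  have horb : Nat.card O * Nat.card (MulAction.stabilizer Γ (c • e)) = Nat.card Γ := by
    rw [← Nat.card_prod]
    exact Nat.card_congr (MulAction.orbitProdStabilizerEquivGroup Γ (c • e))
  have hst : Nat.card (MulAction.stabilizer Γ (c • e)) = Nat.card (fix2 X e c) :=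
    Nat.card_congr
      { toFun := fun g => ⟨(g.1 : V ≃ₗ[F] V), g.1.2, g.2⟩
        invFun := fun g => ⟨⟨g.1, g.2.1⟩, g.2.2⟩
        left_inv := fun g => rfl
        right_inv := fun g => rfl }
  refine dvd_trans ?_ (Subgroup.card_dvd_of_le (inf_le_left : Γ ≤ X))
  rw [← horb, hst]
  exact mul_dvd_mul hdiv dvd_rfl

variable {p : ℕ} [Fact p.Prime] [CharP F p] {U : Subgroup (V ≃ₗ[F] V)} (hU : Core p φ X e U)

include hU

theorem le_fix2 (c : E) : U ≤ fix2 X e c := fun u hu => by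
  refine mem_fix2.mpr ⟨⟨(hU.le u hu).1, ?_⟩, (hU.le u hu).2.1 c⟩
  have h := (hU.le u hu).2.1 1
  rwa [one_smul] at h

/-- The numerical consequences, and Sylow conjugation into the core. -/
theorem consequences {γ : V ≃ₗ[F] V} (hγ : γ ∈ X) (hγe : γ e = e) {c : E} (hout : ∀ d : E, γ (c • e) ≠ d • e) :
    r = p ∧ Nat.card F = p ∧ ∀ W : Subgroup (V ≃ₗ[F] V), IsPGroup p W → W ≤ fix2 X e c →
      ∃ h ∈ fix2 X e c, ∀ w ∈ W, h⁻¹ * w * h ∈ U := by
  classical
  haveI : Finite F := Finite.of_injective _ (algebraMap F E).injective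
  let G := fix2 X e c
  have hUG : U ≤ G := hC.le_fix2 hU c
  obtain ⟨S, hS⟩ := (hU.pgrp.comap_of_injective G.subtype Subtype.val_injective).exists_le_sylow
  let Qm : Subgroup (V ≃ₗ[F] V) := (S : Subgroup G).map G.subtype
  have hQp : IsPGroup p Qm := S.isPGroup'.map _
  have hUQ : U ≤ Qm := fun u hu => ⟨⟨u, hUG hu⟩, hS (show (⟨u, hUG hu⟩ : G) ∈ U.comap G.subtype from hu), rfl⟩
  have hQX : Qm ≤ X := fun u hu => by
    obtain ⟨y, -, rfl⟩ := hu
    exact y.2.1.1
  obtain ⟨P, hP⟩ := (hQp.comap_of_injective X.subtype Subtype.val_injective).exists_le_sylow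
  let Pm : Subgroup (V ≃ₗ[F] V) := (P : Subgroup X).map X.subtype
  have hPp : IsPGroup p Pm := P.isPGroup'.map _
  have hUP : U ≤ Pm := fun u hu => ⟨⟨u, hQX (hUQ hu)⟩,
    hP (show (⟨u, hQX (hUQ hu)⟩ : X) ∈ Qm.comap X.subtype from hUQ hu), rfl⟩
  obtain ⟨hfirst, hbound⟩ := hC.pGroup_bound hU hPp (Subgroup.map_subtype_le _) hUP
  obtain ⟨f, hf, hf1⟩ : ∃ f : ℕ, Nat.card F = p ^ f ∧ 1 ≤ f := by
    letI := Fintype.ofFinite F
    obtain ⟨n, -, hn⟩ := FiniteField.card F p
    exact ⟨n, by rw [Nat.card_eq_fintype_card, hn], n.pos⟩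
  obtain ⟨a, ha⟩ := hQp.exists_card_eq
  have hQcard : Nat.card Qm ∣ Nat.card G := Subgroup.card_dvd_of_le (Subgroup.map_subtype_le _)
  have hPdvd : Nat.card F * Nat.card Qm ∣ Nat.card Pm := by
    have h1 : Nat.card F * Nat.card Qm ∣ Nat.card X :=
      (mul_dvd_mul_left _ hQcard).trans (hC.orbit_dvd hγ hγe hout)
    rw [hf, ha, ← pow_add] at h1 ⊢
    have h2 := P.pow_dvd_card_of_pow_dvd_card h1
    rwa [← Subgroup.card_map_of_injective (K := (P : Subgroup X)) X.subtype_injective] at h2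
  have hUQc : Nat.card U ≤ Nat.card Qm := Subgroup.card_le_of_le hUQ
  have hUpos : 0 < Nat.card U := Nat.card_pos
  have hPle : Nat.card F * Nat.card Qm ≤ Nat.card Pm := Nat.le_of_dvd Nat.card_pos hPdvd
  have hq2 : 2 ≤ Nat.card F := Finite.one_lt_card
  have hrp : r = p := by
    by_contra hne
    have : Nat.card Pm ≤ Nat.card U := Subgroup.card_le_of_le (hfirst hne)
    nlinarith
  have hqp : Nat.card F = p := by
    have h1 : Nat.card F ≤ p := by
      by_contra h
      nlinarith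
    have h2 : p ≤ Nat.card F := by
      rw [hf]; exact Nat.le_self_pow (by omega) p
    omega
  have hQU : U = Qm := Subgroup.eq_of_le_of_card_ge hUQ (by
    rw [hqp] at hPle
    exact Nat.le_of_mul_le_mul_left (hPle.trans hbound) (Fact.out : p.Prime).pos)
  refine ⟨hrp, hqp, fun W hW hWG => ?_⟩
  obtain ⟨S', hS'⟩ := (hW.comap_of_injective G.subtype Subtype.val_injective).exists_le_sylow
  obtain ⟨h, hh⟩ := MulAction.exists_smul_eq G S S'
  refine ⟨h, h.2, fun w hw => ?_⟩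
  have h1 : (⟨w, hWG hw⟩ : G) ∈ (S' : Subgroup G) := hS' (show (⟨w, hWG hw⟩ : G) ∈ W.comap G.subtype from hw)
  rw [← hh] at h1
  obtain ⟨z, hz, he⟩ := h1
  rw [hQU]
  refine ⟨z, hz, ?_⟩
  have he' : (h : V ≃ₗ[F] V) * (z : V ≃ₗ[F] V) * (h : V ≃ₗ[F] V)⁻¹ = w := congrArg Subtype.val he
  change (z : V ≃ₗ[F] V) = _
  rw [← he']
  group

end Ctx

variable (hφ : IsSymp φ) (hN : ∀ g : V ≃ₗ[F] V, SemiV E g → g ∈ Isom F φ → g ∈ X) (hX : X ≤ Isom F φ)

include hφ hN

/-- A non-semilinear member moves some point off its line. -/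
theorem exists_breaker (hns : ∃ g ∈ X, ¬ SemiV E g) :
    ∃ (e : V), e ≠ 0 ∧ ∃ δ ∈ X, δ e = e ∧ ∃ c : E, ∀ d : E, δ (c • e) ≠ d • e := by
  obtain ⟨g, hg, hgs⟩ := hns
  obtain ⟨c, v, hcv⟩ : ∃ (c : E) (v : V), ∀ d : E, g (c • v) ≠ d • g v := by
    by_contra hcon
    push Not at hcon
    exact hgs (semi_of_lines hφ hcon)
  have hv : v ≠ 0 := fun h => hcv 0 (by simp [h])
  obtain ⟨k, hk, hkl, hkv⟩ := exists_move hN hφ (x := g v) (fun h => hv (g.map_eq_zero_iff.mp h)) hv
  refine ⟨v, hv, k * g, X.mul_mem hk hg, by rw [LinearEquiv.mul_apply, hkv], c, fun d h => hcv d ?_⟩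
  rw [LinearEquiv.mul_apply] at h
  refine k.injective (h.trans ?_)
  rw [hkl.1, hkv]

omit hφ hN in
theorem count_bad {p : ℕ} (hr : Module.finrank F E = p) (hp : p.Prime) (hq : Nat.card F = p) (h3 : 3 ≤ p)
    (B : AddSubgroup E) (hB : B ≠ ⊤) : ∃ c : E, c ∉ B ∧ ∀ τ : E ≃ₐ[F] E, τ c ≠ c + 1 := by
  classical
  haveI := finiteDimensional (F := F) (E := E)
  haveI : Finite F := Finite.of_injective _ (algebraMap F E).injective
  haveI : Finite (E ≃ₐ[F] E) := Finite.of_injective (fun g : E ≃ₐ[F] E => (g : E → E)) DFunLike.coe_injective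
  letI := Fintype.ofFinite E
  letI := Fintype.ofFinite (E ≃ₐ[F] E)
  have hcard : Nat.card E = p ^ p := by rw [Module.natCard_eq_pow_finrank (K := F), hr, hq]
  have hBc : Nat.card B ≤ p ^ (p - 1) := by
    obtain ⟨j, hj, he⟩ := (Nat.dvd_prime_pow hp).mp (hcard ▸ AddSubgroup.card_addSubgroup_dvd_card B)
    rw [he]
    refine Nat.pow_le_pow_right hp.pos ?_
    by_contra h
    refine hB (AddSubgroup.eq_top_of_card_eq B ?_)
    rw [he, hcard, show j = p by omega]
  by_contra hcon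
  push Not at hcon
  have hτ : ∀ τ : E ≃ₐ[F] E, (Finset.univ.filter fun c => τ c = c + 1).card ≤ p := fun τ => by
    rcases (Finset.univ.filter fun c => τ c = c + 1).eq_empty_or_nonempty with h | ⟨c₀, hc₀⟩
    · rw [h]; exact Nat.zero_le _
    have hc0 : τ c₀ = c₀ + 1 := (Finset.mem_filter.mp hc₀).2
    letI := Fintype.ofFinite F
    refine le_trans (Finset.card_le_card (t := (Finset.univ : Finset F).image fun a => c₀ + algebraMap F E a)
      fun c hc => ?_) (Finset.card_image_le.trans (by rw [Finset.card_univ, Fintype.card_eq_nat_card, hq]))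
    have hc1 : τ c = c + 1 := (Finset.mem_filter.mp hc).2
    have hτ1 : τ ≠ 1 := fun h => by
      rw [h, AlgEquiv.one_apply] at hc1
      exact one_ne_zero (α := E) (by linear_combination -hc1)
    have hfix : τ (c - c₀) = c - c₀ := by rw [map_sub, hc0, hc1]; ring
    obtain ⟨a, ha⟩ : ∃ a, algebraMap F E a = c - c₀ := by
      by_contra hne
      push Not at hne
      exact hτ1 (gal_inj_at hr hp hne (σ := τ) (τ := 1) (by rw [hfix, AlgEquiv.one_apply]))
    exact Finset.mem_image.mpr ⟨a, Finset.mem_univ _, by rw [ha]; ring⟩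
  have hsub : (Finset.univ : Finset E) ⊆
      (Finset.univ.filter fun c => c ∈ B) ∪ (Finset.univ : Finset (E ≃ₐ[F] E)).biUnion
        (fun τ => Finset.univ.filter fun c => τ c = c + 1) := fun c _ => by
    by_cases hcB : c ∈ B
    · exact Finset.mem_union_left _ (Finset.mem_filter.mpr ⟨Finset.mem_univ _, hcB⟩)
    · obtain ⟨τ, hτc⟩ := hcon c hcB
      exact Finset.mem_union_right _ (Finset.mem_biUnion.mpr ⟨τ, Finset.mem_univ _, Finset.mem_filter.mpr ⟨Finset.mem_univ _, hτc⟩⟩)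
  have h1 := (Finset.card_le_card hsub).trans (Finset.card_union_le _ _)
  have h2 : (Finset.univ.filter fun c => c ∈ B).card ≤ p ^ (p - 1) := by
    rw [← Fintype.card_subtype, Fintype.card_eq_nat_card]
    exact hBc
  have h4 := Finset.card_biUnion_le_card_mul (Finset.univ : Finset (E ≃ₐ[F] E))
    (fun τ => Finset.univ.filter fun c => τ c = c + 1) p fun τ _ => hτ τ
  rw [Finset.card_univ, Fintype.card_eq_nat_card, gal_card hr] at h4
  rw [Finset.card_univ, Fintype.card_eq_nat_card, hcard] at h1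
  have h5 : p * p ≤ p ^ (p - 1) := by rw [← sq]; exact Nat.pow_le_pow_right hp.pos (by omega)
  have h6 : p ^ p = p * p ^ (p - 1) := by rw [← pow_succ', Nat.sub_add_cancel hp.one_le]
  nlinarith

include hX in
/-- Either everything is semilinear or all long root elements are there. -/
theorem overgroup (hr : Module.finrank F E = r) (hp : r.Prime)
    (hbig : r ≠ 2 ∨ ∀ e : V, e ≠ 0 → ∃ u, φ u e = 0 ∧ ∀ c : E, u ≠ c • e) :
    (∀ g ∈ X, SemiV E g) ∨ ∀ (v : V) (a : F), tvT hφ v (a • (Algebra.linearMap F E).comp tr) ∈ X := by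
  classical
  by_contra hcon
  push Not at hcon
  obtain ⟨hns, v₁, a₁, hfail⟩ := hcon
  obtain ⟨e, he, δ, hδ, hδe, c₁, hc₁⟩ := exists_breaker hφ hN hns
  obtain ⟨e', he'⟩ := exists_dual hφ he
  have hv₁ : v₁ ≠ 0 := fun h => hfail (by
    have h1 : tvT hφ (0 : V) (a₁ • (Algebra.linearMap F E).comp tr) = 1 := LinearEquiv.ext fun x => by
      rw [tvT_apply, smul_zero, add_zero]; rfl
    rw [h, h1]; exact one_mem X)
  have hC : Ctx φ X r e e' := ⟨hφ, hN, hX, hr, hp, he', a₁, fun h => hfail (Mlong_move hφ hN he hv₁ h)⟩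
  haveI : Finite F := Finite.of_injective _ (algebraMap F E).injective
  haveI := finiteDimensional (F := F) (E := E)
  obtain ⟨p, hchar⟩ := CharP.exists F
  haveI : Fact p.Prime := ⟨CharP.char_is_prime F p⟩
  obtain ⟨U, hU⟩ := hC.exists_core p
  obtain ⟨hrp, hqp, -⟩ := hC.consequences hU hδ hδe hc₁
  subst hrp
  rcases Nat.lt_or_ge r 3 with h3 | h3
  swap
  · -- a point whose translate is no Galois conjugate
    let B : AddSubgroup E :=
      { carrier := {c | ∀ g ∈ X, g e = e → ∃ d : E, g (c • e) = d • e}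
        zero_mem' := fun g _ _ => ⟨0, by rw [zero_smul, map_zero]⟩
        add_mem' := fun {a b} ha hb g hg hge => by
          obtain ⟨d, hd⟩ := ha g hg hge
          obtain ⟨d', hd'⟩ := hb g hg hge
          exact ⟨d + d', by rw [add_smul, map_add, hd, hd', add_smul]⟩
        neg_mem' := fun {a} ha g hg hge => by
          obtain ⟨d, hd⟩ := ha g hg hge
          exact ⟨-d, by rw [neg_smul, map_neg, hd, neg_smul]⟩ }
    have hB : B ≠ ⊤ := fun h => by
      obtain ⟨d, hd⟩ := (h ▸ AddSubgroup.mem_top c₁ : c₁ ∈ B) δ hδ hδe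
      exact hc₁ d hd
    obtain ⟨c, hcB, hcτ⟩ := count_bad hr hp hqp h3 B hB
    simp only [B, AddSubgroup.mem_mk, AddSubmonoid.mem_mk, AddSubsemigroup.mem_mk, Set.mem_setOf_eq] at hcB
    push Not at hcB
    obtain ⟨γ₀, hγ₀, hγ₀e, hγ₀c⟩ := hcB
    obtain ⟨γ, hγ, hγe, hγc⟩ := hC.translate hγ₀ hγ₀e hγ₀c 1
    rw [one_smul] at hγc
    have hγc' : γ (c • e) = (c + 1) • e := by rw [hγc, add_smul, one_smul]
    obtain ⟨-, -, hconj⟩ := hC.consequences hU hγ₀ hγ₀e hγ₀c
    let W : Subgroup (V ≃ₗ[F] V) := U.map (MulAut.conj γ⁻¹).toMonoidHom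
    have hγi : γ⁻¹ e = e := by conv_lhs => rw [← hγe]; exact γ.symm_apply_apply e
    have hW : W ≤ fix2 X e c := fun w hw => by
      obtain ⟨u, hu, rfl⟩ := hw
      obtain ⟨⟨huX, hue⟩, hu1⟩ := mem_fix2.mp (hC.le_fix2 hU (c + 1) hu)
      refine mem_fix2.mpr ⟨⟨?_, ?_⟩, ?_⟩ <;>
        simp only [MulEquiv.coe_toMonoidHom, MulAut.conj_apply, inv_inv]
      · exact X.mul_mem (X.mul_mem (X.inv_mem hγ) huX) hγ
      · rw [LinearEquiv.mul_apply, LinearEquiv.mul_apply, hγe, hue, hγi]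
      · rw [LinearEquiv.mul_apply, LinearEquiv.mul_apply, hγc', hu1, ← hγc']
        exact γ.symm_apply_apply _
    obtain ⟨h, hh, hhU⟩ := hconj W (hU.pgrp.map _) hW
    obtain ⟨⟨hhX, hhe⟩, hhc⟩ := mem_fix2.mp hh
    have hn : (γ * h)⁻¹ ∈ NU X U := by
      refine ⟨X.inv_mem (X.mul_mem hγ hhX), fun u hu => ?_⟩
      have := hhU _ ⟨u, hu, rfl⟩
      simp only [MulEquiv.coe_toMonoidHom, MulAut.conj_apply, inv_inv] at this
      rwa [show (γ * h)⁻¹ * u * (γ * h)⁻¹⁻¹ = h⁻¹ * (γ⁻¹ * u * γ) * h by group]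
    have hn' : γ * h ∈ NU X U := by
      have := inv_mem hn
      rwa [inv_inv] at this
    obtain ⟨τ, hτ⟩ := hC.exists_tau hU hn'
    have hd : ∀ (y z : E), (γ * h) (y • e) = z • e → Dl φ e e' (γ * h) y = z := fun y z hyz => by
      rw [Dl_apply, hyz, map_smul, he', smul_eq_mul, mul_one]
    have h1 := hd 1 1 (by rw [one_smul, LinearEquiv.mul_apply, hhe, hγe])
    have h2 := hd c (c + 1) (by rw [LinearEquiv.mul_apply, hhc, hγc'])
    have h3' := hτ c 1
    rw [mul_one, h1, h2, mul_one] at h3'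
    exact hcτ τ h3'.symm
  -- the quadratic case over the field of two elements
  obtain rfl : r = 2 := by have := hp.two_le; omega
  obtain ⟨u₀, hu₀, hu₀L⟩ := (hbig.resolve_left (not_not.mpr rfl)) e he
  haveI hch : CharP E 2 := charE (F := F) 2
  letI := Fintype.ofFinite E
  obtain ⟨ω, hω⟩ := Algebra.trace_surjective F E 1
  have hF : ∀ a : F, a = 0 ∨ a = 1 := fun a => by
    letI := Fintype.ofFinite F
    by_contra h
    push Not at h
    have := Finset.card_le_univ ({0, 1, a} : Finset F)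
    rw [Finset.card_insert_of_notMem (by simp [Ne.symm h.1]), Finset.card_pair (Ne.symm h.2),
      Fintype.card_eq_nat_card, hqp] at this
    omega
  have htr1 : tr (1 : E) = 0 := by
    rw [← map_one (algebraMap F E), Algebra.trace_algebraMap, hr, ← Nat.cast_smul_eq_nsmul F, CharP.cast_eq_zero,
      zero_smul]
  have htrω : tr (ω + 1) = 1 := by rw [map_add, hω, htr1, add_zero]
  have hω0 : ω ≠ 0 := fun h => one_ne_zero (α := F) (by rw [← hω, h, map_zero])
  have hω1 : ω ≠ 1 := fun h => one_ne_zero (α := F) (by rw [← hω, h, htr1])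
  have hω10 : ω + 1 ≠ 0 := fun h => one_ne_zero (α := F) (by rw [← htrω, h, map_zero])
  have hω11 : ω + 1 ≠ 1 := fun h => hω0 (by linear_combination h)
  have hfour : ∀ x : E, x = 0 ∨ x = 1 ∨ x = ω ∨ x = ω + 1 := fun x => by
    by_contra h
    push Not at h
    have := Finset.card_le_univ ({x, 0, 1, ω, ω + 1} : Finset E)
    rw [Fintype.card_eq_nat_card, Module.natCard_eq_pow_finrank (K := F), hr, hqp,
      Finset.card_insert_of_notMem (by simp [h.1, h.2.1, h.2.2.1, h.2.2.2]),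
      Finset.card_insert_of_notMem (by simp [Ne.symm hω0, Ne.symm hω10]),
      Finset.card_insert_of_notMem (by simp [Ne.symm hω1, Ne.symm hω11]), Finset.card_pair (by simp)] at this
    omega
  have htr0 : ∀ x : E, tr x = 0 → x = 0 ∨ x = 1 := fun x hx => by
    rcases hfour x with h | h | h | h
    · exact Or.inl h
    · exact Or.inr h
    · exact absurd (hω ▸ h ▸ hx) one_ne_zero
    · exact absurd (htrω ▸ h ▸ hx) one_ne_zero
  obtain ⟨γ, hγ, hγe, c, hγc, hγL⟩ : ∃ γ ∈ X, γ e = e ∧ ∃ c : E, φ (γ (c • e)) e = 0 ∧ ∀ d : E, γ (c • e) ≠ d • e := by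
    by_cases h0 : φ (δ (c₁ • e)) e = 0
    · exact ⟨δ, hδ, hδe, c₁, h0, hc₁⟩
    obtain ⟨y, hy⟩ : ∃ y, y = δ (c₁ • e) := ⟨_, rfl⟩
    have hone : ∀ x, tr (φ x e) = 0 → tr (φ (δ x) e) = 0 := fun x hx => by
      have h := hX hδ x e
      rw [hδe] at h
      rw [h, hx]
    have hye : φ y e = 1 := (htr0 _ (by rw [hy]; exact hone _ (by
      rw [map_smul, LinearMap.smul_apply, hφ.alt, smul_zero, map_zero]))).resolve_left (hy ▸ h0)
    obtain ⟨u, hu, huL, hδu⟩ : ∃ u, φ u e = 0 ∧ (∀ d : E, u ≠ d • e) ∧ φ (δ u) e = 1 := by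
      by_contra hc
      push Not at hc
      have hperp : ∀ v, φ v e = 0 → (∀ d : E, v ≠ d • e) → φ (δ v) e = 0 := fun v hv hvL =>
        (htr0 _ (hone v (by rw [hv, map_zero]))).resolve_right (hc v hv hvL)
      refine h0 ?_
      have h1 : φ (u₀ + c₁ • e) e = 0 := by
        rw [map_add, LinearMap.add_apply, hu₀, map_smul, LinearMap.smul_apply, hφ.alt, smul_zero, add_zero]
      have h2 := hperp _ h1 fun d hd => hu₀L (d - c₁) (by rw [sub_smul, ← hd, add_sub_cancel_right])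
      rwa [map_add, map_add, LinearMap.add_apply, hperp u₀ hu₀ hu₀L, zero_add] at h2
    obtain ⟨v, hv⟩ : ∃ v, v = δ u - y := ⟨_, rfl⟩
    have hve : φ v e = 0 := by rw [hv, map_sub, LinearMap.sub_apply, hδu, hye, sub_self]
    let s := tvT hφ e (mulE (F := F) (-φ y v)) * rho hφ F hve
    have hs : s y = δ u := by
      have h1 : φ (v + φ y v • e) e = 0 := by
        rw [map_add, LinearMap.add_apply, hve, map_smul, LinearMap.smul_apply, hφ.alt, smul_zero, add_zero]
      have h2 : rho hφ F hve y = y + (v + φ y v • e) := by rw [rho_apply, hye, one_smul, add_assoc]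
      have h3 : φ (y + (v + φ y v • e)) e = 1 := by rw [map_add, LinearMap.add_apply, hye, h1, add_zero]
      simp only [s, LinearEquiv.mul_apply, h2, tvT_apply, h3, mulE_apply, mul_one, neg_smul]
      rw [← add_assoc y, add_neg_cancel_right, hv, add_sub_cancel]
    have hse : s e = e := by
      simp only [s, LinearEquiv.mul_apply, rho_apply, tvT_apply, hφ.alt, zero_smul, add_zero, anti hφ v e, hve,
        neg_zero, map_zero]
    have hδi : δ⁻¹ e = e := by conv_lhs => rw [← hδe]; exact δ.symm_apply_apply e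
    have hfin : (δ⁻¹ * s * δ) (c₁ • e) = u := by
      rw [LinearEquiv.mul_apply, LinearEquiv.mul_apply, ← hy, hs]
      exact δ.symm_apply_apply u
    refine ⟨δ⁻¹ * s * δ, X.mul_mem (X.mul_mem (X.inv_mem hδ) (X.mul_mem (linIso_mem hN (tvT_linIso hφ _ _))
      (linIso_mem hN (rho_linIso hφ hve)))) hδ, by rw [LinearEquiv.mul_apply, LinearEquiv.mul_apply, hδe, hse, hδi],
      c₁, by rw [hfin, hu], fun d => by rw [hfin]; exact huL d⟩
  obtain ⟨-, -, hconj⟩ := hC.consequences hU hγ hγe hγL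
  let T := tvT hφ e (mulE (F := F) (1 : E))
  have hTX : T ∈ X := linIso_mem hN (tvT_linIso hφ _ _)
  have hTe : T e = e := by simp only [T, tvT_apply, hφ.alt, map_zero, zero_smul, add_zero]
  have hTw : T (γ (c • e)) = γ (c • e) := by simp only [T, tvT_apply, hγc, map_zero, zero_smul, add_zero]
  have hT2 : T ^ (2 ^ 1) = 1 := by
    rw [pow_one, pow_two, tvT_mul]
    refine LinearEquiv.ext fun x => ?_
    rw [tvT_apply, LinearMap.add_apply, CharTwo.add_self_eq_zero, zero_smul, add_zero]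
    rfl
  have hγi : γ⁻¹ e = e := by conv_lhs => rw [← hγe]; exact γ.symm_apply_apply e
  let W : Subgroup (V ≃ₗ[F] V) := (Subgroup.zpowers T).map (MulAut.conj γ⁻¹).toMonoidHom
  have hWp : IsPGroup 2 W := by
    refine IsPGroup.map (fun y => ?_) _
    obtain ⟨y, n, rfl⟩ := y
    refine ⟨1, Subtype.ext ?_⟩
    change (T ^ n) ^ (2 ^ 1) = 1
    rw [← zpow_natCast, ← zpow_mul, mul_comm, zpow_mul, zpow_natCast, hT2, one_zpow]
  have hW : W ≤ fix2 X e c := by
    rw [Subgroup.map_le_iff_le_comap, Subgroup.zpowers_le, Subgroup.mem_comap]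
    refine mem_fix2.mpr ⟨⟨?_, ?_⟩, ?_⟩ <;> simp only [MulEquiv.coe_toMonoidHom, MulAut.conj_apply, inv_inv]
    · exact X.mul_mem (X.mul_mem (X.inv_mem hγ) hTX) hγ
    · rw [LinearEquiv.mul_apply, LinearEquiv.mul_apply, hγe, hTe, hγi]
    · rw [LinearEquiv.mul_apply, LinearEquiv.mul_apply, hTw]
      exact γ.symm_apply_apply _
  obtain ⟨h, hh, hhU⟩ := hconj W hWp hW
  obtain ⟨⟨hhX, hhe⟩, hhc⟩ := mem_fix2.mp hh
  obtain ⟨d, hd⟩ : ∃ d, d = γ * h := ⟨_, rfl⟩
  have hde : d e = e := by rw [hd, LinearEquiv.mul_apply, hhe, hγe]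
  have hdc : d (c • e) = γ (c • e) := by rw [hd, LinearEquiv.mul_apply, hhc]
  obtain ⟨u, hudef⟩ : ∃ u, u = d⁻¹ * T * d := ⟨_, rfl⟩
  have hu : u ∈ U := by
    have := hhU _ ⟨T, Subgroup.mem_zpowers T, rfl⟩
    simp only [MulEquiv.coe_toMonoidHom, MulAut.conj_apply, inv_inv] at this
    rwa [hudef, hd, show (γ * h)⁻¹ * T * (γ * h) = h⁻¹ * (γ⁻¹ * T * γ) * h by group]
  have himg : ∀ x, u x - x = d⁻¹ (φ (d x) e • e) := fun x => by
    rw [hudef, LinearEquiv.mul_apply, LinearEquiv.mul_apply]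
    simp only [T, tvT_apply, mulE_apply, one_mul]
    rw [map_add, show d⁻¹ (d x) = x from d.symm_apply_apply x, add_sub_cancel_left]
  have hdi : ∀ y : E, y = 0 ∨ y = 1 → d⁻¹ (y • e) = y • e := fun y hy => by
    rcases hy with rfl | rfl
    · rw [zero_smul, map_zero]
    · rw [one_smul]; conv_lhs => rw [← hde]; exact d.symm_apply_apply e
  -- two elements of the image congruent up to the scalar `ω` lie on the line
  have hpair : ∀ y y' : E, (∃ k : E, d⁻¹ (y' • e) = ω • d⁻¹ (y • e) + k • e) → ∃ k : E, d⁻¹ (y • e) = k • e := by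
    rintro y y' ⟨k, hk⟩
    by_cases h1 : y = 0 ∨ y = 1
    · exact ⟨y, hdi y h1⟩
    by_cases h2 : y' = 0 ∨ y' = 1
    · refine ⟨ω⁻¹ * (y' - k), ?_⟩
      rw [hdi y' h2] at hk
      rw [mul_smul, sub_smul, hk, add_sub_cancel_right, smul_smul, inv_mul_cancel₀ hω0, one_smul]
    have h3 : y' - y = 0 ∨ y' - y = 1 := htr0 _ (by
      have htr' : ∀ z : E, ¬ (z = 0 ∨ z = 1) → tr z = 1 := fun z hz =>
        (hF _).resolve_left fun h => hz (htr0 z h)
      rw [map_sub, htr' y' h2, htr' y h1, sub_self])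
    refine ⟨(ω - 1)⁻¹ * (y' - y - k), ?_⟩
    have h4 : d⁻¹ (y' • e) - d⁻¹ (y • e) = (y' - y) • e := by rw [← map_sub, ← sub_smul, hdi _ h3]
    have h5 : (ω - 1) • d⁻¹ (y • e) = (y' - y - k) • e := by
      rw [sub_smul _ k, ← h4, hk, sub_smul, one_smul]
      abel
    rw [mul_smul, ← h5, smul_smul, inv_mul_cancel₀ (sub_ne_zero.mpr hω1), one_smul]
  obtain ⟨huX, hufix, hulin⟩ := hU.le u hu
  have hshort : IsShort φ e u := by
    refine ⟨hufix, fun v hv => ?_⟩
    obtain ⟨k, hk⟩ := hulin ω v hv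
    obtain ⟨k', hk'⟩ := hpair (φ (d v) e) (φ (d (ω • v)) e) ⟨k, by rw [← himg, ← himg, hk, smul_sub]; abel⟩
    exact ⟨k', by rw [← hk', ← himg, add_sub_cancel]⟩
  have hline : ∀ x, ∃ k : E, u x - x = k • e := by
    have hperp : ∀ a : E, φ (u (a • e') - a • e') e = 0 := fun a => by
      rw [map_sub, LinearMap.sub_apply, pair_line (hX huX) hufix, sub_self]
    have hlin : ∀ a : E, ∃ k : E, u (a • e') - a • e' = a • (u e' - e') + k • e := fun a => by
      refine ⟨φ e' (u (a • e') - a • e' - a • (u e' - e')), ?_⟩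
      rw [← eq_smul_of_perp hφ he' fun v hv => ?_, add_sub_cancel]
      rw [map_sub, map_smul (φ v), short_linear hφ hN hX hr hp he' hC.proper huX hshort a hv, smul_eq_mul, sub_self]
    obtain ⟨k, hk⟩ : ∃ k : E, u e' - e' = k • e := by
      obtain ⟨k, hk⟩ := hlin ω
      obtain ⟨k', hk'⟩ := hpair (φ (d e') e) (φ (d (ω • e')) e) ⟨k, by rw [← himg, ← himg, hk]⟩
      exact ⟨k', by rw [himg, hk']⟩
    intro x
    obtain ⟨k1, hk1⟩ := hshort.2 _ (decomp hφ he' x)
    obtain ⟨k2, hk2⟩ := hlin (φ x e)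
    refine ⟨φ x e * k + k2 + k1, ?_⟩
    rw [hk, smul_smul] at hk2
    have e1 : u x = u (φ x e • e') + u (x - φ x e • e') := by rw [← map_add, add_sub_cancel]
    rw [e1, hk1, add_smul, add_smul, ← hk2]
    abel
  have hall : ∀ y : E, ∃ k : E, d⁻¹ (y • e) = k • e := fun y => by
    obtain ⟨k, hk⟩ := hline (d⁻¹ (y • e'))
    refine ⟨k, ?_⟩
    rw [← hk, himg, show d (d⁻¹ (y • e')) = y • e' from d.apply_symm_apply _, map_smul φ y e', LinearMap.smul_apply,
      he', smul_eq_mul, mul_one]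
  choose κ hκ using hall
  obtain ⟨y, hy⟩ := Finite.surjective_of_injective (f := κ) (fun a b hab => smul_left_injective E he
    ((d⁻¹).injective (show d⁻¹ (a • e) = d⁻¹ (b • e) by rw [hκ, hκ, hab]))) c
  refine hγL y ?_
  rw [← hdc, ← hy, ← hκ]
  exact d.apply_symm_apply _

end Cfsg.Agent.Classical.FieldExt.Symp
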